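import Mathlib
import Cfsg.Prelude.Def_Blocks
import Cfsg.Agent.Lib.Helper78.Swan
import Cfsg.Agent.Lib.Helper78.Eigen
import Cfsg.Agent.Lib.Helper77.Degree
import Cfsg.Agent.Lib.Helper77.MinMax
import Cfsg.Agent.Lib.Helper77.Osima

/-!
# Characters of height zero and defect classes
-/

set_option autoImplicit false
set_option linter.unusedSectionVars false

namespace Cfsg.Agent.Lib.Helper78

open Cfsg Cfsg.Agent.Lib.Helper16 Cfsg.Agent.Lib.Helper77

section Roots

variable {M : Ideal Cfsg.AlgInt}

/-- A root of unity of `p`-power order is congruent to `1` modulo the local ideal. -/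
theorem memLocalIdeal_sub_one_of_pow_pow_eq_one {p : ℕ} (hM : Cfsg.IsPModular p M) (k : ℕ)
    {ζ : ℂ} (h : ζ ^ (p ^ k) = 1) : MemLocalIdeal M (ζ - 1) := by
  have hP := isPrime_of_isPModular hM
  have hp : p.Prime := hM.1
  induction k generalizing ζ with
  | zero =>
    rw [pow_zero, pow_one] at h
    rw [h, sub_self]
    exact Cfsg.Agent.Lib.Helper16.memLocalIdeal_zero hP
  | succ k ih =>
    have h' : (ζ ^ p) ^ (p ^ k) = 1 := by
      rw [← pow_mul, ← pow_succ']; exact h
    have h1 := ih h'
    have hint : IsIntegral ℤ ζ := by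
      refine ⟨Polynomial.X ^ (p ^ (k + 1)) - 1,
        Polynomial.monic_X_pow_sub_C (1 : ℤ) (pow_ne_zero _ hp.ne_zero), ?_⟩
      simp [h]
    let z : Cfsg.AlgInt := ⟨ζ, hint⟩
    have hz : z ^ p - 1 ∈ M := by
      apply (memLocalIdeal_algInt_iff hP (z ^ p - 1)).1
      simpa [z] using h1
    obtain ⟨r, hr⟩ := exists_add_pow_prime_eq hp (z - 1) 1
    have h2 : (z - 1) ^ p = (z ^ p - 1) - (p : Cfsg.AlgInt) * ((z - 1) * r) := by
      have h3 : z - 1 + 1 = z := by ring
      rw [h3, one_pow] at hr
      linear_combination (-1 : Cfsg.AlgInt) * hr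
    have h3 : (z - 1) ^ p ∈ M := by
      rw [h2]
      exact M.sub_mem hz (M.mul_mem_right _ hM.2.2)
    have h4 : z - 1 ∈ M := hP.mem_of_pow_mem p h3
    have := memLocalIdeal_of_mem hP h4
    simpa [z] using this

end Roots

section Split

/-- A commuting product of a `p`-element and a `p`-regular element: both factors are powers of
the product. -/
theorem exists_pow_split {G : Type*} [Group G] {p : ℕ} (hp : p.Prime) {x y : G}
    (hxy : Commute x y) {k : ℕ} (hx : orderOf x = p ^ k) (hy : ¬ p ∣ orderOf y) :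
    ∃ a b : ℕ, (x * y) ^ a = x ∧ (x * y) ^ b = y ∧ p ^ k * orderOf y ∣ a * p ^ k ∧
      a + b ≡ 1 [MOD p ^ k * orderOf y] := by
  have hcop : Nat.Coprime (p ^ k) (orderOf y) :=
    Nat.Coprime.pow_left k ((Nat.Prime.coprime_iff_not_dvd hp).2 hy)
  obtain ⟨a, ha1, ha2⟩ := Nat.chineseRemainder hcop 1 0
  obtain ⟨b, hb1, hb2⟩ := Nat.chineseRemainder hcop 0 1
  refine ⟨a, b, ?_, ?_, ?_, ?_⟩
  · rw [hxy.mul_pow]
    have e1 : x ^ a = x ^ 1 := by
      rw [pow_eq_pow_iff_modEq, hx]; exact ha1
    have e2 : y ^ a = 1 := by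
      rw [← orderOf_dvd_iff_pow_eq_one]; exact (Nat.modEq_zero_iff_dvd).1 ha2
    rw [e1, e2, pow_one, mul_one]
  · rw [hxy.mul_pow]
    have e1 : y ^ b = y ^ 1 := by
      rw [pow_eq_pow_iff_modEq]; exact hb2
    have e2 : x ^ b = 1 := by
      rw [← orderOf_dvd_iff_pow_eq_one, hx]; exact (Nat.modEq_zero_iff_dvd).1 hb1
    rw [e1, e2, pow_one, one_mul]
  · have : orderOf y ∣ a := (Nat.modEq_zero_iff_dvd).1 ha2
    rw [mul_comm a]
    exact Nat.mul_dvd_mul_left _ this
  · apply (Nat.modEq_and_modEq_iff_modEq_mul hcop).1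
    constructor
    · have := ha1.add hb1
      simpa using this
    · have := ha2.add hb2
      simpa using this

end Split

section Char

variable {M : Ideal Cfsg.AlgInt}

/-- The value of a character at `x * y`, with `x` a `p`-element commuting with the `p`-regular
element `y`, is congruent to its value at `y` modulo the local ideal. -/
theorem character_mul_sub_mem {G : Type*} [Group G] [Finite G] {p : ℕ}
    (hM : Cfsg.IsPModular p M) {V : Type*} [AddCommGroup V] [Module ℂ V] [FiniteDimensional ℂ V]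
    (ρ : Representation ℂ G V) (x y : G) (hxy : Commute x y) (k : ℕ) (hx : orderOf x = p ^ k)
    (hy : ¬ p ∣ orderOf y) :
    MemLocalIdeal M (LinearMap.trace ℂ V (ρ (x * y)) - LinearMap.trace ℂ V (ρ y)) := by
  classical
  have hP := isPrime_of_isPModular hM
  have hp : p.Prime := hM.1
  obtain ⟨a, b, hua, hub, hdvd, hmod⟩ := exists_pow_split hp hxy hx hy
  have hN : 0 < p ^ k * orderOf y := Nat.mul_pos (pow_pos hp.pos k) (orderOf_pos y)
  have huN : (x * y) ^ (p ^ k * orderOf y) = 1 := by
    rw [hxy.mul_pow, pow_mul, ← hx, pow_orderOf_eq_one, one_pow, mul_comm (orderOf x), pow_mul,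
      pow_orderOf_eq_one, one_pow, mul_one]
  obtain ⟨ι, _, bas, d, hd, hA⟩ := exists_eigenbasis (ρ (x * y)) (p ^ k * orderOf y) hN
    (by rw [← map_pow, huN, map_one])
  have e1 : LinearMap.trace ℂ V (ρ (x * y)) = ∑ i, d i ^ 1 := by
    rw [← trace_pow_eigen bas (ρ (x * y)) d hA 1, pow_one]
  have e2 : LinearMap.trace ℂ V (ρ y) = ∑ i, d i ^ b := by
    rw [← trace_pow_eigen bas (ρ (x * y)) d hA b, ← map_pow, hub]
  rw [e1, e2, ← Finset.sum_sub_distrib]
  apply Cfsg.Agent.Lib.Helper16.memLocalIdeal_sum hP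
  intro i _
  have hint : IsIntegral ℤ (d i) := by
    apply IsIntegral.of_pow hN
    rw [hd i]; exact isIntegral_one
  have h1 : d i ^ (a + b) = d i ^ 1 :=
    (pow_eq_pow_mod (a + b) (hd i)).trans
      ((congrArg (fun t => d i ^ t) hmod).trans (pow_eq_pow_mod 1 (hd i)).symm)
  have h2 : (d i ^ a) ^ (p ^ k) = 1 := by
    rw [← pow_mul]
    obtain ⟨c, hc⟩ := hdvd
    rw [hc, pow_mul, hd i, one_pow]
  have h3 : d i ^ 1 - d i ^ b = (d i ^ a - 1) * d i ^ b := by
    rw [← h1, pow_add]; ring
  rw [h3]
  exact memLocalIdeal_mul_right hP (memLocalIdeal_sub_one_of_pow_pow_eq_one hM k h2)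
    (memLocalRing_of_isIntegral' hP (hint.pow b))

end Char

section Height

variable {G : Type*} [Group G] [Fintype G] {M : Ideal Cfsg.AlgInt}

/-- A nonempty set of irreducible characters contains one of least `p`-part of the degree. -/
theorem exists_height_zero (p : ℕ) (B : Set (Cfsg.IrrCharacter G)) (hne : B.Nonempty) :
    ∃ ψ ∈ B, Cfsg.blockHeight p B (ψ : G → ℂ) = 0 := by
  obtain ⟨ψ, hψ, h⟩ := Nat.sInf_mem
    (hne.image (fun χ : Cfsg.IrrCharacter G => (Cfsg.charDegree (χ : G → ℂ)).factorization p))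
  refine ⟨ψ, hψ, ?_⟩
  unfold Cfsg.blockHeight
  have h' : (Cfsg.charDegree (ψ : G → ℂ)).factorization p =
      sInf ((fun χ : Cfsg.IrrCharacter G => (Cfsg.charDegree (χ : G → ℂ)).factorization p) '' B) := h
  rw [h']
  exact Nat.sub_self _

/-- For a character of height zero in `B` and a defect class `y` of `B`, the `p`-parts of the
degree and of the class size agree. -/
theorem factorization_eq_of_height_zero {p : ℕ} [Fact p.Prime] (hM : Cfsg.IsPModular p M)
    (B : Set (Cfsg.IrrCharacter G)) (hB : Cfsg.IsPBlock M B) (y : G)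
    (hy : Cfsg.IsDefectClass M B y) (χ : Cfsg.IrrCharacter G) (hχ : χ ∈ B)
    (h0 : Cfsg.blockHeight p B (χ : G → ℂ) = 0) :
    (Cfsg.charDegree (χ : G → ℂ)).factorization p =
      ((Subgroup.centralizer ({y} : Set G)).index).factorization p := by
  classical
  have hp := (Fact.out : p.Prime)
  obtain ⟨P⟩ : Nonempty (Sylow p (Subgroup.centralizer ({y} : Set G))) := inferInstance
  have hD : Cfsg.IsDefectGroup p M B
      ((P : Subgroup (Subgroup.centralizer ({y} : Set G))).map
        (Subgroup.centralizer ({y} : Set G)).subtype) := ⟨y, hy, P, rfl⟩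
  have hcard := card_isDefectGroup hM B hB _ hD
  rw [Subgroup.card_map_of_injective (Subgroup.subtype_injective _), P.card_eq_multiplicity]
    at hcard
  have hj : (Nat.card (Subgroup.centralizer ({y} : Set G))).factorization p =
      Cfsg.blockDefect p B := Nat.pow_right_injective hp.two_le hcard
  obtain ⟨h1, hpos, hdvd⟩ := Cfsg.Agent.Lib.Helper79.irr_charDegree χ.2
  have hmem : (Cfsg.charDegree (χ : G → ℂ)).factorization p ∈
      ((fun χ : Cfsg.IrrCharacter G => (Cfsg.charDegree (χ : G → ℂ)).factorization p) '' B) :=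
    ⟨χ, hχ, rfl⟩
  have hle := Nat.sInf_le hmem
  have hs : (Cfsg.charDegree (χ : G → ℂ)).factorization p ≤ (Nat.card G).factorization p :=
    (Nat.factorization_le_iff_dvd hpos.ne' Nat.card_pos.ne').2 hdvd p
  have hidx : Nat.card (Subgroup.centralizer ({y} : Set G)) *
      (Subgroup.centralizer ({y} : Set G)).index = Nat.card G := Subgroup.card_mul_index _
  have hfac : (Nat.card G).factorization p =
      (Nat.card (Subgroup.centralizer ({y} : Set G))).factorization p +
        ((Subgroup.centralizer ({y} : Set G)).index).factorization p := by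
    rw [← hidx, Nat.factorization_mul Nat.card_pos.ne' Subgroup.index_ne_zero_of_finite]
    rfl
  unfold Cfsg.blockDefect at hj
  unfold Cfsg.blockHeight at h0
  omega

/-- When the `p`-parts of the degree of `χ` and of the class size of `z` agree, the central
character of `χ` at `z` lies in the local ideal exactly when `χ z` does. -/
theorem memLocalIdeal_centralChar_iff {p : ℕ} [Fact p.Prime] (hM : Cfsg.IsPModular p M)
    (χ : Cfsg.IrrCharacter G) (z : G)
    (h : (Cfsg.charDegree (χ : G → ℂ)).factorization p =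
      ((Subgroup.centralizer ({z} : Set G)).index).factorization p) :
    MemLocalIdeal M (Cfsg.centralChar (χ : G → ℂ) z) ↔ MemLocalIdeal M ((χ : G → ℂ) z) := by
  have hP := isPrime_of_isPModular hM
  have hp := (Fact.out : p.Prime)
  obtain ⟨h1, hpos, hdvd⟩ := Cfsg.Agent.Lib.Helper79.irr_charDegree χ.2
  have hidx0 : (Subgroup.centralizer ({z} : Set G)).index ≠ 0 := Subgroup.index_ne_zero_of_finite
  obtain ⟨d, hd⟩ : ∃ d, d = Cfsg.charDegree (χ : G → ℂ) := ⟨_, rfl⟩
  obtain ⟨c, hc⟩ : ∃ c, c = (Subgroup.centralizer ({z} : Set G)).index := ⟨_, rfl⟩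
  rw [← hd, ← hc] at h
  rw [← hd] at h1 hpos
  rw [← hc] at hidx0
  have e1 := Nat.ordProj_mul_ordCompl_eq_self d p
  have e2 := Nat.ordProj_mul_ordCompl_eq_self c p
  have n1 : ¬ p ∣ d / p ^ d.factorization p := Nat.not_dvd_ordCompl hp hpos.ne'
  have n2 : ¬ p ∣ c / p ^ c.factorization p := Nat.not_dvd_ordCompl hp hidx0
  rw [h] at e1 n1
  obtain ⟨d', hd'⟩ : ∃ d', d' = d / p ^ c.factorization p := ⟨_, rfl⟩
  obtain ⟨c', hc'⟩ : ∃ c', c' = c / p ^ c.factorization p := ⟨_, rfl⟩
  rw [← hd'] at e1 n1
  rw [← hc'] at e2 n2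
  obtain ⟨t, ht⟩ : ∃ t, t = c.factorization p := ⟨_, rfl⟩
  rw [← ht] at e1 e2
  have hp0 : (p : ℂ) ≠ 0 := by exact_mod_cast hp.ne_zero
  have hd0 : (d' : ℂ) ≠ 0 := by
    intro h0
    have : d' = 0 := by exact_mod_cast h0
    rw [this] at n1; exact n1 (dvd_zero p)
  have hc0 : (c' : ℂ) ≠ 0 := by
    intro h0
    have : c' = 0 := by exact_mod_cast h0
    rw [this] at n2; exact n2 (dvd_zero p)
  have hcc : Cfsg.centralChar (χ : G → ℂ) z = (χ : G → ℂ) z * ((c' : ℂ) * (d' : ℂ)⁻¹) := by
    unfold Cfsg.centralChar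
    rw [h1, ← hc, ← e1, ← e2]
    push_cast
    field_simp
  have hcc' : (χ : G → ℂ) z = Cfsg.centralChar (χ : G → ℂ) z * ((d' : ℂ) * (c' : ℂ)⁻¹) := by
    rw [hcc]
    field_simp
  constructor
  · intro hh
    rw [hcc']
    exact memLocalIdeal_mul_right hP hh
      (memLocalRing_mul hP (memLocalRing_natCast hP d') (memLocalRing_inv_natCast hM n2))
  · intro hh
    rw [hcc]
    exact memLocalIdeal_mul_right hP hh
      (memLocalRing_mul hP (memLocalRing_natCast hP c') (memLocalRing_inv_natCast hM n1))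

/-- A defect class is `p`-regular. -/
theorem isDefectClass_regular {p : ℕ} [Fact p.Prime] (hM : Cfsg.IsPModular p M)
    (B : Set (Cfsg.IrrCharacter G)) (hB : Cfsg.IsPBlock M B) (y : G)
    (hy : Cfsg.IsDefectClass M B y) : ¬ p ∣ orderOf y := by
  intro h
  apply hy.2.1
  rw [blockCoeff_eq_zero_of_singular hM B hB h]
  exact Cfsg.Agent.Lib.Helper16.memLocalIdeal_zero (isPrime_of_isPModular hM)

/-- A character of height zero does not vanish modulo the local ideal on `x * y`, `y` in a
defect class and `x` a `p`-element commuting with `y`. -/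
theorem not_memLocalIdeal_irr_mul_defect_class {p : ℕ} [Fact p.Prime] (hM : Cfsg.IsPModular p M)
    (B : Set (Cfsg.IrrCharacter G)) (hB : Cfsg.IsPBlock M B) (y : G)
    (hy : Cfsg.IsDefectClass M B y) (χ : Cfsg.IrrCharacter G) (hχ : χ ∈ B)
    (h0 : Cfsg.blockHeight p B (χ : G → ℂ) = 0) (x : G) (hxy : Commute x y) (k : ℕ)
    (hx : orderOf x = p ^ k) :
    ¬ MemLocalIdeal M ((χ : G → ℂ) (x * y)) := by
  have hP := isPrime_of_isPModular hM
  intro hcon
  have hreg := isDefectClass_regular hM B hB y hy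
  have h1 : ¬ MemLocalIdeal M ((χ : G → ℂ) y) := by
    rw [← memLocalIdeal_centralChar_iff hM χ y
      (factorization_eq_of_height_zero hM B hB y hy χ hχ h0)]
    exact hy.2.2 χ hχ
  apply h1
  obtain ⟨n, ρ, _, hρ⟩ := χ.2
  have h2 := character_mul_sub_mem (M := M) hM ρ x y hxy k hx hreg
  have h3 : (χ : G → ℂ) y = (χ : G → ℂ) (x * y) - ((χ : G → ℂ) (x * y) - (χ : G → ℂ) y) := by
    ring
  rw [h3]
  apply Cfsg.Agent.Lib.Helper16.memLocalIdeal_sub hP hcon
  rw [← hρ]
  exact h2

end Height

section Index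

/-- If `z` has centralizer inside that of `y` and a Sylow `p`-subgroup of the centralizer of `y`
centralizes `z`, then the class sizes of `y` and `z` have the same `p`-part. -/
theorem factorization_index_centralizer_eq {G : Type*} [Group G] [Finite G] {p : ℕ}
    (hp : p.Prime) (y z : G)
    (hzy : Subgroup.centralizer ({z} : Set G) ≤ Subgroup.centralizer ({y} : Set G))
    (P : Sylow p (Subgroup.centralizer ({y} : Set G)))
    (hPz : ∀ w ∈ (P : Subgroup (Subgroup.centralizer ({y} : Set G))), (w : G) * z = z * w) :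
    ((Subgroup.centralizer ({y} : Set G)).index).factorization p =
      ((Subgroup.centralizer ({z} : Set G)).index).factorization p := by
  have hle : (P : Subgroup (Subgroup.centralizer ({y} : Set G))).map
      (Subgroup.centralizer ({y} : Set G)).subtype ≤ Subgroup.centralizer ({z} : Set G) := by
    rintro _ ⟨w, hw, rfl⟩
    rw [Subgroup.mem_centralizer_iff]
    intro h hh
    rw [Set.mem_singleton_iff] at hh
    rw [hh]
    exact (hPz w hw).symm
  have := Fact.mk hp
  have h1 := Subgroup.card_dvd_of_le hle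
  rw [Subgroup.card_map_of_injective (Subgroup.subtype_injective _), P.card_eq_multiplicity]
    at h1
  have h2 := Subgroup.card_dvd_of_le hzy
  have h3 : (Nat.card (Subgroup.centralizer ({y} : Set G))).factorization p ≤
      (Nat.card (Subgroup.centralizer ({z} : Set G))).factorization p :=
    (hp.pow_dvd_iff_le_factorization Nat.card_pos.ne').1 h1
  have h4 : (Nat.card (Subgroup.centralizer ({z} : Set G))).factorization p ≤
      (Nat.card (Subgroup.centralizer ({y} : Set G))).factorization p :=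
    (Nat.factorization_le_iff_dvd Nat.card_pos.ne' Nat.card_pos.ne').2 h2 p
  have e1 : (Nat.card G).factorization p =
      (Nat.card (Subgroup.centralizer ({y} : Set G))).factorization p +
        ((Subgroup.centralizer ({y} : Set G)).index).factorization p := by
    rw [← Subgroup.card_mul_index (Subgroup.centralizer ({y} : Set G)),
      Nat.factorization_mul Nat.card_pos.ne' Subgroup.index_ne_zero_of_finite]
    rfl
  have e2 : (Nat.card G).factorization p =
      (Nat.card (Subgroup.centralizer ({z} : Set G))).factorization p +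
        ((Subgroup.centralizer ({z} : Set G)).index).factorization p := by
    rw [← Subgroup.card_mul_index (Subgroup.centralizer ({z} : Set G)),
      Nat.factorization_mul Nat.card_pos.ne' Subgroup.index_ne_zero_of_finite]
    rfl
  omega

end Index

end Cfsg.Agent.Lib.Helper78
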