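import Mathlib
import Cfsg.Agent.Lib.Helper79.Linear

/-!
Group theoretic preliminaries for the Brauer--Leonard analysis of the principal block of a group
with an abelian Sylow subgroup whose normalizer acts semiregularly: characters of finite abelian
groups, counting fibres of group actions, and the two actions of the normalizer.
-/

set_option autoImplicit false

namespace Cfsg.Agent.Lib.Helper78

/-- a nontrivial homomorphism to `ℂˣ` sums to zero -/
theorem bl_sum_hom {A : Type*} [Group A] [Fintype A] (φ : A →* ℂˣ) (hφ : φ ≠ 1) :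
    ∑ y : A, ((φ y : ℂˣ) : ℂ) = 0 := by
  have h := sum_hom_units_eq_zero ((Units.coeHom ℂ).comp φ) (by
    intro h
    apply hφ
    ext y
    have h2 := congrArg (fun f : A →* ℂ => f y) h
    simpa using h2)
  simpa using h

theorem bl_sum_hom_ite {A : Type*} [Group A] [Fintype A] (φ : A →* ℂˣ) [Decidable (φ = 1)] :
    ∑ y : A, ((φ y : ℂˣ) : ℂ) = if φ = 1 then (Fintype.card A : ℂ) else 0 := by
  split_ifs with h
  · rw [h]
    simp
  · exact bl_sum_hom φ h

theorem bl_exists_ne_one {A : Type*} [Group A] [Finite A] (hcomm : ∀ a b : A, a * b = b * a)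
    (u : A) (hu : u ≠ 1) : ∃ ψ : A →* ℂˣ, ψ u ≠ 1 := by
  letI : CommGroup A := { ‹Group A› with mul_comm := hcomm }
  have hne : (Monoid.exponent A : ℂ) ≠ 0 := by
    exact_mod_cast Monoid.exponent_ne_zero_of_finite
  haveI : NeZero ((Monoid.exponent A : ℕ) : ℂ) := ⟨hne⟩
  exact CommGroup.exists_apply_ne_one_of_hasEnoughRootsOfUnity A ℂ hu

theorem bl_card_dual {A : Type*} [Group A] [Finite A] (hcomm : ∀ a b : A, a * b = b * a) :
    Nat.card (A →* ℂˣ) = Nat.card A := by
  letI : CommGroup A := { ‹Group A› with mul_comm := hcomm }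
  have hne : (Monoid.exponent A : ℂ) ≠ 0 := by
    exact_mod_cast Monoid.exponent_ne_zero_of_finite
  haveI : NeZero ((Monoid.exponent A : ℕ) : ℂ) := ⟨hne⟩
  exact CommGroup.card_monoidHom_of_hasEnoughRootsOfUnity A ℂ

/-- dual orthogonality: the values at a nonidentity element of all linear characters of a finite
abelian group sum to zero -/
theorem bl_sum_dual {A : Type*} [Group A] [Finite A] [Fintype (A →* ℂˣ)]
    (hcomm : ∀ a b : A, a * b = b * a) (u : A) (hu : u ≠ 1) :
    ∑ ψ : A →* ℂˣ, ((ψ u : ℂˣ) : ℂ) = 0 := by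
  obtain ⟨ψ₀, hψ₀⟩ := bl_exists_ne_one hcomm u hu
  have h1 : ∑ ψ : A →* ℂˣ, ((ψ u : ℂˣ) : ℂ) = ∑ ψ : A →* ℂˣ, (((ψ₀ * ψ) u : ℂˣ) : ℂ) :=
    (Fintype.sum_equiv (Equiv.mulLeft ψ₀) _ _ (fun ψ => rfl)).symm
  have h2 : ∑ ψ : A →* ℂˣ, (((ψ₀ * ψ) u : ℂˣ) : ℂ) =
      ((ψ₀ u : ℂˣ) : ℂ) * ∑ ψ : A →* ℂˣ, ((ψ u : ℂˣ) : ℂ) := by
    rw [Finset.mul_sum]
    refine Finset.sum_congr rfl fun ψ _ => ?_
    simp
  have h3 : (1 - ((ψ₀ u : ℂˣ) : ℂ)) * ∑ ψ : A →* ℂˣ, ((ψ u : ℂˣ) : ℂ) = 0 := by
    rw [sub_mul, one_mul, ← h2, ← h1, sub_self]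
  rcases mul_eq_zero.mp h3 with h | h
  · exfalso
    apply hψ₀
    apply Units.ext
    rw [Units.val_one]
    exact (sub_eq_zero.mp h).symm
  · exact h

theorem bl_sum_dual_ite {A : Type*} [Group A] [Finite A] [Fintype (A →* ℂˣ)]
    (hcomm : ∀ a b : A, a * b = b * a) (u : A) [Decidable (u = 1)] :
    ∑ ψ : A →* ℂˣ, ((ψ u : ℂˣ) : ℂ) = if u = 1 then (Nat.card A : ℂ) else 0 := by
  split_ifs with h
  · rw [h]
    simp only [map_one, Units.val_one, Finset.sum_const, Finset.card_univ, nsmul_eq_mul, mul_one]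
    rw [← Nat.card_eq_fintype_card, bl_card_dual hcomm]
  · exact bl_sum_dual hcomm u h

/-- fibres of an orbit map are cosets of the stabilizer -/
theorem bl_card_fiber {A X : Type*} [Group A] [Fintype A] [DecidableEq X] (act : A → X → X)
    (h1 : ∀ x, act 1 x = x) (hmul : ∀ a b x, act (a * b) x = act a (act b x)) (x x' : X)
    (S : Subgroup A) (hS : ∀ a, act a x = x ↔ a ∈ S) [Decidable (∃ a, act a x = x')] :
    (Finset.univ.filter (fun a : A => act a x = x')).card =
      if ∃ a, act a x = x' then Nat.card S else 0 := by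
  split_ifs with h
  · obtain ⟨a₀, rfl⟩ := h
    rw [← Fintype.card_subtype, ← Nat.card_eq_fintype_card]
    refine Nat.card_congr
      { toFun := fun a => ⟨a₀⁻¹ * a.1, ?_⟩
        invFun := fun s => ⟨a₀ * s.1, ?_⟩
        left_inv := ?_
        right_inv := ?_ }
    · rw [← hS, hmul, a.2, ← hmul, inv_mul_cancel, h1]
    · rw [hmul, (hS s.1).mpr s.2]
    · intro a
      apply Subtype.ext
      simp
    · intro s
      apply Subtype.ext
      simp
  · rw [Finset.card_eq_zero, Finset.filter_eq_empty_iff]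
    intro a _ ha
    exact h ⟨a, ha⟩

/-- orbit-stabilizer -/
theorem bl_card_orbit {A X : Type*} [Group A] [Fintype A] [Fintype X] [DecidableEq X]
    (act : A → X → X)
    (h1 : ∀ x, act 1 x = x) (hmul : ∀ a b x, act (a * b) x = act a (act b x)) (x : X)
    (S : Subgroup A) (hS : ∀ a, act a x = x ↔ a ∈ S) :
    (Finset.univ.filter (fun x' : X => ∃ a, act a x = x')).card * Nat.card S =
      Fintype.card A := by
  classical
  have h2 := Finset.card_eq_sum_card_fiberwise (f := fun a : A => act a x)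
    (s := Finset.univ) (t := Finset.univ) (fun _ _ => Finset.mem_univ _)
  rw [Finset.card_univ] at h2
  rw [h2]
  have h3 : ∀ x' ∈ (Finset.univ : Finset X),
      (Finset.univ.filter (fun a : A => act a x = x')).card =
        if ∃ a, act a x = x' then Nat.card S else 0 :=
    fun x' _ => bl_card_fiber act h1 hmul x x' S hS
  rw [Finset.sum_congr rfl h3, Finset.sum_ite, Finset.sum_const, Finset.sum_const_zero,
    add_zero, smul_eq_mul]


section act

variable {G : Type*} [Group G] (P : Subgroup G)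

/-- conjugation by an element of the normalizer, as an endomorphism of `P` -/
def blCj (n : Subgroup.normalizer (P : Set G)) : P →* P where
  toFun w := ⟨(n : G) * w * (n : G)⁻¹, (Subgroup.mem_normalizer_iff.mp n.2 w).mp w.2⟩
  map_one' := by
    apply Subtype.ext
    simp
  map_mul' a b := by
    apply Subtype.ext
    simp [mul_assoc]

theorem blCj_coe (n : Subgroup.normalizer (P : Set G)) (w : P) :
    ((blCj P n w : P) : G) = (n : G) * w * (n : G)⁻¹ := rfl

theorem blCj_one (w : P) : blCj P 1 w = w := by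
  apply Subtype.ext
  rw [blCj_coe]
  simp

theorem blCj_mul (a b : Subgroup.normalizer (P : Set G)) (w : P) :
    blCj P (a * b) w = blCj P a (blCj P b w) := by
  apply Subtype.ext
  rw [blCj_coe, blCj_coe, blCj_coe]
  simp [mul_assoc]

theorem blCj_inv_cancel (a : Subgroup.normalizer (P : Set G)) (w : P) :
    blCj P a⁻¹ (blCj P a w) = w := by
  rw [← blCj_mul, inv_mul_cancel, blCj_one]

theorem blCj_cancel_inv (a : Subgroup.normalizer (P : Set G)) (w : P) :
    blCj P a (blCj P a⁻¹ w) = w := by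
  rw [← blCj_mul, mul_inv_cancel, blCj_one]

/-- conjugation as a permutation of `P` -/
def blCjEquiv (n : Subgroup.normalizer (P : Set G)) : P ≃ P where
  toFun := blCj P n
  invFun := blCj P n⁻¹
  left_inv := blCj_inv_cancel P n
  right_inv := blCj_cancel_inv P n

/-- the action of the normalizer on the linear characters of `P` -/
def blActL (n : Subgroup.normalizer (P : Set G)) (ψ : P →* ℂˣ) : P →* ℂˣ :=
  ψ.comp (blCj P n⁻¹)

theorem blActL_apply (n : Subgroup.normalizer (P : Set G)) (ψ : P →* ℂˣ) (w : P) :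
    blActL P n ψ w = ψ (blCj P n⁻¹ w) := rfl

theorem blActL_one (ψ : P →* ℂˣ) : blActL P 1 ψ = ψ := by
  ext w
  rw [blActL_apply, inv_one, blCj_one]

theorem blActL_mul (a b : Subgroup.normalizer (P : Set G)) (ψ : P →* ℂˣ) :
    blActL P (a * b) ψ = blActL P a (blActL P b ψ) := by
  ext w
  rw [blActL_apply, blActL_apply, blActL_apply, mul_inv_rev, blCj_mul]

theorem blActL_eq_iff (n : Subgroup.normalizer (P : Set G)) (ψ ψ' : P →* ℂˣ) :
    blActL P n ψ = ψ' ↔ ψ'.comp (blCj P n) = ψ := by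
  constructor
  · rintro rfl
    ext w
    rw [MonoidHom.comp_apply, blActL_apply, blCj_inv_cancel]
  · rintro rfl
    ext w
    rw [blActL_apply, MonoidHom.comp_apply, blCj_cancel_inv]

theorem blActL_ne_one (n : Subgroup.normalizer (P : Set G)) (ψ : P →* ℂˣ) (h : ψ ≠ 1) :
    blActL P n ψ ≠ 1 := by
  intro h1
  apply h
  have h2 := (blActL_eq_iff P n ψ 1).mp h1
  rw [← h2]
  ext w
  simp

/-- the orbit relation on characters, in the form of the statements -/
theorem bl_rel_iff (ψ ψ' : P →* ℂˣ) :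
    (∃ n : G, n ∈ Subgroup.normalizer (P : Set G) ∧
      ∀ w w' : P, (w' : G) = n * w * n⁻¹ → ψ' w' = ψ w) ↔
    ∃ n : Subgroup.normalizer (P : Set G), blActL P n ψ = ψ' := by
  constructor
  · rintro ⟨n, hn, h⟩
    refine ⟨⟨n, hn⟩, ?_⟩
    ext w'
    rw [blActL_apply, h (blCj P (⟨n, hn⟩ : Subgroup.normalizer (P : Set G))⁻¹ w') w' ?_]
    rw [blCj_coe]
    simp [mul_assoc]
  · rintro ⟨n, rfl⟩
    refine ⟨n, n.2, ?_⟩
    intro w w' hw
    rw [blActL_apply]
    congr 1
    apply Subtype.ext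
    rw [blCj_coe, hw]
    simp [mul_assoc]

variable [Finite G]

/-- stabilizers of nonidentity elements -/
theorem bl_stabP
    (hfrob : ∀ y : G, y ∈ P → y ≠ 1 → Subgroup.centralizer ({y} : Set G) ⊓
      Subgroup.normalizer (P : Set G) = Subgroup.centralizer (P : Set G))
    (y : P) (hy : (y : G) ≠ 1) (n : Subgroup.normalizer (P : Set G)) :
    blCj P n y = y ↔ n ∈ (Subgroup.centralizer (P : Set G)).subgroupOf
      (Subgroup.normalizer (P : Set G)) := by
  rw [Subgroup.mem_subgroupOf, ← hfrob y y.2 hy, Subgroup.mem_inf]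
  constructor
  · intro h
    refine ⟨?_, n.2⟩
    rw [Subgroup.mem_centralizer_iff]
    intro u hu
    rw [Set.mem_singleton_iff] at hu
    rw [hu]
    have h2 : (n : G) * y * (n : G)⁻¹ = y := congrArg Subtype.val h
    calc (y : G) * (n : G) = ((n : G) * y * (n : G)⁻¹) * (n : G) := by rw [h2]
      _ = (n : G) * y := by group
  · rintro ⟨h, _⟩
    apply Subtype.ext
    rw [blCj_coe]
    have h2 := (Subgroup.mem_centralizer_iff.mp h) y (Set.mem_singleton _)
    rw [← h2]
    simp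

theorem bl_stabL (hab : ∀ a b : P, a * b = b * a)
    (hfrob : ∀ y : G, y ∈ P → y ≠ 1 → Subgroup.centralizer ({y} : Set G) ⊓
      Subgroup.normalizer (P : Set G) = Subgroup.centralizer (P : Set G))
    (ψ : P →* ℂˣ) (hψ : ψ ≠ 1) (n : Subgroup.normalizer (P : Set G)) :
    blActL P n ψ = ψ ↔ n ∈ (Subgroup.centralizer (P : Set G)).subgroupOf
      (Subgroup.normalizer (P : Set G)) := by
  constructor
  · intro h
    by_contra hn
    have hn' : n⁻¹ ∉ (Subgroup.centralizer (P : Set G)).subgroupOf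
        (Subgroup.normalizer (P : Set G)) := fun h' => hn (by simpa using Subgroup.inv_mem _ h')
    let τ : P →* P :=
      { toFun := fun w => blCj P n⁻¹ w * w⁻¹
        map_one' := by simp
        map_mul' := by
          intro a b
          rw [map_mul, mul_inv_rev]
          calc blCj P n⁻¹ a * blCj P n⁻¹ b * (b⁻¹ * a⁻¹)
              = blCj P n⁻¹ a * (blCj P n⁻¹ b * (b⁻¹ * a⁻¹)) := by rw [mul_assoc]
            _ = blCj P n⁻¹ a * ((b⁻¹ * a⁻¹) * blCj P n⁻¹ b) := by
                rw [hab (blCj P n⁻¹ b) (b⁻¹ * a⁻¹)]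
            _ = blCj P n⁻¹ a * ((a⁻¹ * b⁻¹) * blCj P n⁻¹ b) := by rw [hab b⁻¹ a⁻¹]
            _ = blCj P n⁻¹ a * (a⁻¹ * (b⁻¹ * blCj P n⁻¹ b)) := by rw [mul_assoc a⁻¹]
            _ = blCj P n⁻¹ a * (a⁻¹ * (blCj P n⁻¹ b * b⁻¹)) := by rw [hab b⁻¹]
            _ = blCj P n⁻¹ a * a⁻¹ * (blCj P n⁻¹ b * b⁻¹) := by rw [mul_assoc] }
    have hinj : Function.Injective τ := by
      rw [injective_iff_map_eq_one]
      intro w hw
      by_contra hw1
      have h2 : blCj P n⁻¹ w = w := by
        have h3 : blCj P n⁻¹ w * w⁻¹ = 1 := hw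
        exact mul_inv_eq_one.mp h3
      have hw1' : (w : G) ≠ 1 := fun h' => hw1 (Subtype.ext h')
      exact hn' ((bl_stabP P hfrob w hw1' n⁻¹).mp h2)
    have hsurj : Function.Surjective τ := Finite.injective_iff_surjective.mp hinj
    apply hψ
    ext w
    obtain ⟨v, rfl⟩ := hsurj w
    have h4 : ψ (blCj P n⁻¹ v) = ψ v := by
      rw [← blActL_apply, h]
    have h5 : τ v = blCj P n⁻¹ v * v⁻¹ := rfl
    rw [h5, map_mul, h4, map_inv]
    simp
  · intro h
    have h' : n⁻¹ ∈ (Subgroup.centralizer (P : Set G)).subgroupOf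
        (Subgroup.normalizer (P : Set G)) := Subgroup.inv_mem _ h
    ext w
    rw [blActL_apply]
    congr 2
    apply Subtype.ext
    rw [blCj_coe]
    rw [Subgroup.mem_subgroupOf] at h'
    have h2 := (Subgroup.mem_centralizer_iff.mp h') w w.2
    rw [← h2]
    simp

end act

/-- Burnside's fusion theorem for abelian Sylow subgroups -/
theorem bl_fusion {G : Type*} [Group G] [Finite G] {p : ℕ} [Fact p.Prime] (P : Sylow p G)
    (hab : IsMulCommutative P) (y y' : (P : Subgroup G)) (h : IsConj (y : G) (y' : G)) :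
    ∃ n : Subgroup.normalizer ((P : Subgroup G) : Set G), blCj (P : Subgroup G) n y = y' := by
  obtain ⟨c, hc⟩ := isConj_iff.mp h
  have h1 : (c⁻¹)⁻¹ * (y : G) * c⁻¹ ∈ P := by
    rw [inv_inv, hc]
    exact y'.2
  obtain ⟨n, hn, hn2⟩ := P.conj_eq_normalizer_conj_of_mem (y : G) c⁻¹ y.2 h1
  refine ⟨⟨n⁻¹, Subgroup.inv_mem _ hn⟩, ?_⟩
  apply Subtype.ext
  rw [blCj_coe]
  show n⁻¹ * (y : G) * n⁻¹⁻¹ = y'
  rw [inv_inv, ← hn2, inv_inv, hc]

end Cfsg.Agent.Lib.Helper78
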