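import Mathlib
import Cfsg.Prelude.Def_Blocks
import Cfsg.Agent.Lib.Helper78.BLGroup
import Cfsg.Agent.Lib.Helper78.BlockOrth
import Cfsg.Agent.S0942
import Cfsg.Agent.S0947
import Cfsg.Agent.Lib.Helper50.Burnside
import Cfsg.Agent.Lib.Helper75.CharDecomp
import Cfsg.Agent.Lib.Helper75.CharInd
import Cfsg.Agent.Lib.Helper80.CharKer
import Cfsg.Agent.Lib.Helper80.PrimeCodeg

/-!
Character theoretic preliminaries for the Brauer--Leonard analysis: the integers
`a_χ(ψ) = ⟨χ|_P, 1 - ψ⟩` and the values of the characters of the principal block on the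
`p`-singular elements.
-/

set_option autoImplicit false

namespace Cfsg.Agent.Lib.Helper78

open Cfsg

section blA

variable {G : Type*} [Group G] [Finite G]

/-- `⟨χ|_P, 1 - ψ⟩` -/
noncomputable def blA (P : Subgroup G) (χ : G → ℂ) (ψ : P →* ℂˣ) : ℂ :=
  (Nat.card P : ℂ)⁻¹ * ∑ᶠ y : P, χ y * (1 - ((ψ y⁻¹ : ℂˣ) : ℂ))

theorem blA_int (P : Subgroup G) {χ : G → ℂ} (hχ : IsCharacter G χ) (ψ : P →* ℂˣ) :
    ∃ k : ℤ, blA P χ ψ = k := by
  classical
  haveI : Fintype P := Fintype.ofFinite P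
  have hres : IsCharacter P (fun h : P => χ h) := Cfsg.Agent.Lib.Helper75.isCharacter_res P hχ
  obtain ⟨m1, h1⟩ := Cfsg.Agent.Lib.Helper75.classInner_char_irr_nat hres
    (Cfsg.Agent.Lib.Helper80.isIrrCharacter_of_hom (1 : P →* ℂˣ))
  obtain ⟨m2, h2⟩ := Cfsg.Agent.Lib.Helper75.classInner_char_irr_nat hres
    (Cfsg.Agent.Lib.Helper80.isIrrCharacter_of_hom ψ)
  refine ⟨(m1 : ℤ) - m2, ?_⟩
  push_cast
  rw [← h1, ← h2]
  unfold blA Cfsg.classInner
  rw [finsum_eq_sum_of_fintype, ← mul_sub, ← Finset.sum_sub_distrib]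
  congr 1
  refine Finset.sum_congr rfl fun y _ => ?_
  have hc : starRingEnd ℂ (((ψ y : ℂˣ) : ℂ)) = ((ψ y⁻¹ : ℂˣ) : ℂ) :=
    (Cfsg.Agent.Lib.Helper80.char_inv_eq_conj (Cfsg.Agent.Lib.Helper80.isCharacter_of_isIrrCharacter
      (Cfsg.Agent.Lib.Helper80.isIrrCharacter_of_hom ψ)) y).symm
  simp only [MonoidHom.one_apply, Units.val_one, map_one]
  rw [hc]
  ring

theorem blA_inv (P : Subgroup G) (χ : G → ℂ) (ψ : P →* ℂˣ) :
    blA P χ ψ = (Nat.card P : ℂ)⁻¹ * ∑ᶠ y : P, χ ((y : G)⁻¹) * (1 - ((ψ y : ℂˣ) : ℂ)) := by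
  unfold blA
  congr 1
  rw [← finsum_comp_equiv (Equiv.inv P)]
  refine finsum_congr fun y => ?_
  simp

theorem blA_one (P : Subgroup G) (χ : G → ℂ) : blA P χ 1 = 0 := by
  unfold blA
  simp

theorem blA_triv (P : Subgroup G) (ψ : P →* ℂˣ) (hψ : ψ ≠ 1) :
    blA P (fun _ => (1 : ℂ)) ψ = 1 := by
  classical
  haveI : Fintype P := Fintype.ofFinite P
  unfold blA
  rw [finsum_eq_sum_of_fintype]
  have h1 : ∑ y : P, ((ψ⁻¹ y : ℂˣ) : ℂ) = 0 := bl_sum_hom ψ⁻¹ (by
    intro h
    apply hψ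
    ext y
    have h' : (ψ⁻¹) y = (1 : P →* ℂˣ) y := by rw [h]
    rw [MonoidHom.inv_apply, MonoidHom.one_apply, inv_eq_one] at h'
    rw [h', MonoidHom.one_apply])
  have h2 : ∑ y : P, (1 : ℂ) * (1 - ((ψ y⁻¹ : ℂˣ) : ℂ)) =
      (Nat.card P : ℂ) - ∑ y : P, ((ψ⁻¹ y : ℂˣ) : ℂ) := by
    rw [Finset.sum_congr rfl (fun y _ => show (1 : ℂ) * (1 - ((ψ y⁻¹ : ℂˣ) : ℂ)) =
      1 - ((ψ⁻¹ y : ℂˣ) : ℂ) from by rw [MonoidHom.inv_apply, map_inv]; ring),
      Finset.sum_sub_distrib, Finset.sum_const, Finset.card_univ, nsmul_eq_mul, mul_one,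
      Nat.card_eq_fintype_card]
  rw [h2, h1, sub_zero]
  have hP : (Nat.card P : ℂ) ≠ 0 := by exact_mod_cast Nat.card_pos.ne'
  field_simp

theorem blA_act (P : Subgroup G) {χ : G → ℂ} (hχ : IsClassFunction G χ)
    (n : Subgroup.normalizer (P : Set G)) (ψ : P →* ℂˣ) :
    blA P χ (blActL P n ψ) = blA P χ ψ := by
  unfold blA
  congr 1
  rw [← finsum_comp_equiv (blCjEquiv P n)]
  refine finsum_congr fun w => ?_
  have h1 : ((blCjEquiv P n w : P) : G) = (n : G) * w * (n : G)⁻¹ := rfl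
  have h2 : blCj P n⁻¹ ((blCjEquiv P n w)⁻¹) = w⁻¹ := by
    show blCj P n⁻¹ ((blCj P n w)⁻¹) = w⁻¹
    rw [← map_inv, blCj_inv_cancel]
  rw [h1, hχ, blActL_apply, h2]

/-- Fourier inversion on `P` -/
theorem blA_fourier (P : Subgroup G) (hab : ∀ a b : P, a * b = b * a) [Fintype (P →* ℂˣ)]
    (χ : G → ℂ) (y : P) (hy : y ≠ 1) :
    χ y = - ∑ ψ : P →* ℂˣ, blA P χ ψ * ((ψ y : ℂˣ) : ℂ) := by
  classical
  haveI : Fintype P := Fintype.ofFinite P
  have hP : (Nat.card P : ℂ) ≠ 0 := by exact_mod_cast Nat.card_pos.ne'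
  have h1 : ∀ ψ : P →* ℂˣ, blA P χ ψ * ((ψ y : ℂˣ) : ℂ) =
      (Nat.card P : ℂ)⁻¹ * ∑ w : P, χ w * (((ψ y : ℂˣ) : ℂ) - ((ψ (w⁻¹ * y) : ℂˣ) : ℂ)) := by
    intro ψ
    unfold blA
    rw [finsum_eq_sum_of_fintype, mul_assoc, Finset.sum_mul]
    congr 1
    refine Finset.sum_congr rfl fun w _ => ?_
    rw [map_mul, Units.val_mul]
    ring
  rw [Finset.sum_congr rfl (fun ψ _ => h1 ψ), ← Finset.mul_sum, Finset.sum_comm]
  have h2 : ∀ w : P, ∑ ψ : P →* ℂˣ, χ w * (((ψ y : ℂˣ) : ℂ) - ((ψ (w⁻¹ * y) : ℂˣ) : ℂ)) =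
      if w = y then - (Nat.card P : ℂ) * χ y else 0 := by
    intro w
    rw [← Finset.mul_sum, Finset.sum_sub_distrib, bl_sum_dual hab y hy, bl_sum_dual_ite hab]
    by_cases hw : w = y
    · rw [if_pos hw, if_pos (by rw [hw, inv_mul_cancel]), hw]
      ring
    · rw [if_neg hw, if_neg (by
        intro h
        apply hw
        rw [inv_mul_eq_one] at h
        exact h)]
      ring
  rw [Finset.sum_congr rfl (fun w _ => h2 w), Finset.sum_ite_eq' Finset.univ y, if_pos (Finset.mem_univ y)]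
  field_simp

end blA


section block

variable {G : Type*} [Group G] [Finite G] (p : ℕ) [Fact p.Prime] (M : Ideal Cfsg.AlgInt)
  (P : Sylow p G)

omit [Finite G] [Fact p.Prime] in
theorem bl_le_centralizer (hab : ∀ a b : (P : Subgroup G), a * b = b * a) (y : G)
    (hy : y ∈ (P : Subgroup G)) : (P : Subgroup G) ≤ Subgroup.centralizer ({y} : Set G) := by
  intro u hu
  rw [Subgroup.mem_centralizer_iff]
  intro h hh
  rw [Set.mem_singleton_iff] at hh
  rw [hh]
  exact congrArg Subtype.val (hab ⟨y, hy⟩ ⟨u, hu⟩)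

/-- Burnside's transfer theorem in a subgroup containing `P` in which `P` is self-centralizing
in its normalizer -/
theorem bl_core_aux (H : Subgroup G) (hle : (P : Subgroup G) ≤ H)
    (hNC : H ⊓ Subgroup.normalizer ((P : Subgroup G) : Set G) ≤
      Subgroup.centralizer ((P : Subgroup G) : Set G)) :
    (Cfsg.pPrimeCore p H).index = Nat.card (P : Subgroup G) ∧
      Nat.card (P : Subgroup G) = p ^ (Nat.card H).factorization p := by
  classical
  obtain ⟨P', hP'⟩ : ∃ P' : Sylow p H, P' = P.subtype hle := ⟨_, rfl⟩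
  have hP'coe : (P' : Subgroup H) = (P : Subgroup G).subgroupOf H := by
    rw [hP']
    exact Sylow.coe_subtype _ _
  have hcardP' : Nat.card (P' : Subgroup H) = Nat.card (P : Subgroup G) := by
    rw [hP'coe, Nat.card_congr (Subgroup.subgroupOfEquivOfLe hle).toEquiv]
  have hNC' : Subgroup.normalizer ((P' : Subgroup H) : Set H) ≤
      Subgroup.centralizer ((P' : Subgroup H) : Set H) := by
    intro n hn
    rw [Subgroup.mem_centralizer_iff]
    intro u hu
    have huP : (u : G) ∈ (P : Subgroup G) := by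
      have h1 : u ∈ (P' : Subgroup H) := hu
      rw [hP'coe, Subgroup.mem_subgroupOf] at h1
      exact h1
    have hnN : (n : G) ∈ Subgroup.normalizer ((P : Subgroup G) : Set G) := by
      rw [Subgroup.mem_normalizer_iff]
      intro g
      constructor
      · intro hg
        have h1 : (⟨g, hle hg⟩ : H) ∈ (P' : Subgroup H) := by
          rw [hP'coe, Subgroup.mem_subgroupOf]
          exact hg
        have h2 := (Subgroup.mem_normalizer_iff.mp hn ⟨g, hle hg⟩).mp h1
        rw [hP'coe, Subgroup.mem_subgroupOf] at h2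
        exact h2
      · intro hg
        have hgH : g ∈ H := by
          have h3 := hle hg
          have h4 : g = (n : G)⁻¹ * ((n : G) * g * (n : G)⁻¹) * (n : G) := by group
          rw [h4]
          exact H.mul_mem (H.mul_mem (H.inv_mem n.2) h3) n.2
        have h1 : n * (⟨g, hgH⟩ : H) * n⁻¹ ∈ (P' : Subgroup H) := by
          rw [hP'coe, Subgroup.mem_subgroupOf]
          exact hg
        have h2 := (Subgroup.mem_normalizer_iff.mp hn ⟨g, hgH⟩).mpr h1
        rw [hP'coe, Subgroup.mem_subgroupOf] at h2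
        exact h2
    have hnC : (n : G) ∈ Subgroup.centralizer ((P : Subgroup G) : Set G) :=
      hNC (Subgroup.mem_inf.mpr ⟨n.2, hnN⟩)
    apply Subtype.ext
    exact (Subgroup.mem_centralizer_iff.mp hnC) (u : G) huP
  have hcompl := Cfsg.Agent.Lib.Helper50.pPrimeCore_isComplement' P' hNC'
  constructor
  · rw [hcompl.symm.index_eq_card, hcardP']
  · rw [← hcardP']
    exact Sylow.card_eq_multiplicity P'

theorem bl_core_index (hab : ∀ a b : (P : Subgroup G), a * b = b * a)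
    (hfrob : ∀ y : G, y ∈ (P : Subgroup G) → y ≠ 1 → Subgroup.centralizer ({y} : Set G) ⊓
      Subgroup.normalizer ((P : Subgroup G) : Set G) =
        Subgroup.centralizer ((P : Subgroup G) : Set G))
    (y : G) (hy : y ∈ (P : Subgroup G)) (hy1 : y ≠ 1) :
    (Cfsg.pPrimeCore p (Subgroup.centralizer ({y} : Set G))).index = Nat.card (P : Subgroup G) ∧
      Nat.card (P : Subgroup G) =
        p ^ (Nat.card (Subgroup.centralizer ({y} : Set G))).factorization p :=
  bl_core_aux p P _ (bl_le_centralizer p P hab y hy) (hfrob y hy hy1).le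

omit [Finite G] in
theorem bl_orderOf (y : G) (hy : y ∈ (P : Subgroup G)) : ∃ k : ℕ, orderOf y = p ^ k := by
  obtain ⟨k, hk⟩ := IsPGroup.iff_orderOf.mp P.isPGroup' ⟨y, hy⟩
  exact ⟨k, by rw [← hk, Subgroup.orderOf_mk]⟩

variable {p M}

/-- characters of the principal block are constant on the `p`-sections of elements of `P` -/
theorem bl_value (hM : Cfsg.IsPModular p M) (hab : ∀ a b : (P : Subgroup G), a * b = b * a)
    (hfrob : ∀ y : G, y ∈ (P : Subgroup G) → y ≠ 1 → Subgroup.centralizer ({y} : Set G) ⊓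
      Subgroup.normalizer ((P : Subgroup G) : Set G) =
        Subgroup.centralizer ((P : Subgroup G) : Set G))
    (χ : Cfsg.IrrCharacter G) (hχ : χ ∈ Cfsg.principalBlock M G) (z y : G)
    (hzy : Cfsg.IsPPart p z y) (hy : y ∈ (P : Subgroup G)) (hy1 : y ≠ 1) :
    (χ : G → ℂ) z = (χ : G → ℂ) y := by
  have hp : p.Prime := hM.1
  obtain ⟨v, hv, hcomm, hk, hreg⟩ := hzy
  have hidx := bl_core_index p P hab hfrob y hy hy1
  have hvc : v ∈ Subgroup.centralizer ({y} : Set G) := by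
    rw [Subgroup.mem_centralizer_iff]
    intro h hh
    rw [Set.mem_singleton_iff] at hh
    rw [hh]
    exact hcomm.eq
  haveI := Cfsg.Agent.Lib.Helper75.pPrimeCore_normal' p (Subgroup.centralizer ({y} : Set G))
  have hw : (⟨v, hvc⟩ : Subgroup.centralizer ({y} : Set G)) ∈
      Cfsg.pPrimeCore p (Subgroup.centralizer ({y} : Set G)) :=
    Cfsg.Agent.Lib.Helper16.mem_of_pRegular_of_index hp _ (hidx.1.trans hidx.2)
      (by rw [Subgroup.orderOf_mk]; exact hreg)
  have hvmem : v ∈ Cfsg.centralizerPPrimeCore p y := ⟨⟨v, hvc⟩, hw, rfl⟩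
  rw [← hv]
  exact Cfsg.Agent.S0942.result p M hM y hk v hvmem χ hχ

/-- characters of the principal block do not vanish on `P` -/
theorem bl_ne_zero (hM : Cfsg.IsPModular p M) (hab : ∀ a b : (P : Subgroup G), a * b = b * a)
    (χ : Cfsg.IrrCharacter G) (hχ : χ ∈ Cfsg.principalBlock M G) (y : G)
    (hy : y ∈ (P : Subgroup G)) : (χ : G → ℂ) y ≠ 0 := by
  intro h0
  have h1 : Cfsg.MemLocalIdeal M (Cfsg.centralChar (fun _ : G => (1 : ℂ)) y -
      Cfsg.centralChar (χ : G → ℂ) y) := hχ y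
  have h2 : Cfsg.centralChar (fun _ : G => (1 : ℂ)) y - Cfsg.centralChar (χ : G → ℂ) y =
      ((Subgroup.centralizer ({y} : Set G)).index : ℂ) := by
    unfold Cfsg.centralChar
    rw [h0]
    simp
  rw [h2] at h1
  have h3 := (Cfsg.Agent.Lib.Helper16.memLocalIdeal_natCast_iff hM _).mp h1
  have h4 : (Subgroup.centralizer ({y} : Set G)).index ∣ (P : Subgroup G).index :=
    Subgroup.index_dvd_of_le (bl_le_centralizer p P hab y hy)
  exact P.not_dvd_index (h3.trans h4)

omit [Finite G] in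
theorem bl_isPPart_self (y : G) (hy : y ∈ (P : Subgroup G)) : Cfsg.IsPPart p y y :=
  ⟨1, mul_one y, Commute.one_right y, bl_orderOf p P y hy, by
    rw [orderOf_one]
    exact (Fact.out : p.Prime).one_lt.ne' ∘ Nat.dvd_one.mp⟩

/-- the inner products of the columns of the principal block at elements of `P` -/
theorem bl_K (hM : Cfsg.IsPModular p M) (hab : ∀ a b : (P : Subgroup G), a * b = b * a)
    (hfrob : ∀ y : G, y ∈ (P : Subgroup G) → y ≠ 1 → Subgroup.centralizer ({y} : Set G) ⊓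
      Subgroup.normalizer ((P : Subgroup G) : Set G) =
        Subgroup.centralizer ((P : Subgroup G) : Set G))
    (y y' : G) (hy : y ∈ (P : Subgroup G)) (hy1 : y ≠ 1) (hy' : y' ∈ (P : Subgroup G))
    [Decidable (IsConj y y')] :
    ∑ᶠ χ ∈ Cfsg.principalBlock M G, (χ : G → ℂ) y * (χ : G → ℂ) y'⁻¹ =
      if IsConj y y' then (Nat.card (P : Subgroup G) : ℂ) else 0 := by
  have hp : p.Prime := hM.1
  haveI : Fintype G := Fintype.ofFinite G
  split_ifs with hc
  · obtain ⟨c, hc⟩ := isConj_iff.mp hc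
    have hidx := bl_core_index p P hab hfrob y hy hy1
    have h947 := (Cfsg.Agent.S0947.result p M hM y (bl_orderOf p P y hy) hy1
      (1 : Subgroup.centralizer ({y} : Set G)) (by
        rw [orderOf_one]
        exact hp.one_lt.ne' ∘ Nat.dvd_one.mp)).2 ⟨_, hidx.1.trans hidx.2⟩
    rw [← hidx.2] at h947
    have e1 : ∑ᶠ χ ∈ Cfsg.principalBlock M G, (χ : G → ℂ) y * (χ : G → ℂ) y'⁻¹ =
        ∑ᶠ χ ∈ Cfsg.principalBlock M G,
          Complex.ofRealHom.toAddMonoidHom
            (‖(χ : G → ℂ) (y * ((1 : Subgroup.centralizer ({y} : Set G)) : G))‖ ^ 2) := by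
      refine finsum_mem_congr rfl fun χ _ => ?_
      have hcl := Cfsg.Agent.Lib.Helper3.isClassFunction_of_isCharacter
        (Cfsg.Agent.Lib.Helper80.isCharacter_of_isIrrCharacter χ.2)
      have h2 : y'⁻¹ = c * y⁻¹ * c⁻¹ := by
        rw [← hc]
        group
      rw [h2, hcl, Cfsg.Agent.Lib.Helper80.char_inv_eq_conj
        (Cfsg.Agent.Lib.Helper80.isCharacter_of_isIrrCharacter χ.2), Complex.mul_conj']
      simp
    rw [e1, ← AddMonoidHom.map_finsum_mem _ _ (Set.toFinite _), h947]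
    simp
  · exact block_orth_sum hM _ (Cfsg.Agent.Lib.Helper77.isPBlock_principalBlock M)
      (bl_isPPart_self P y hy) (bl_isPPart_self P y' hy') hc

end block

end Cfsg.Agent.Lib.Helper78
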