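import Mathlib
import Cfsg.Prelude.Def_Blocks
import Cfsg.Agent.Lib.Helper78.BLChar

/-!
The Gram matrix of the vectors `a_χ(ψ)`, `χ` in the principal block.
-/

set_option autoImplicit false

namespace Cfsg.Agent.Lib.Helper78

open Cfsg

section gram

variable {G : Type*} [Group G] [Finite G] {p : ℕ} [Fact p.Prime] {M : Ideal Cfsg.AlgInt}
  (P : Sylow p G)

omit [Finite G] [Fact p.Prime] in
theorem bl_comm (hab : IsMulCommutative P) : ∀ a b : (P : Subgroup G), a * b = b * a := by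
  intro a b
  have h := hab.is_comm.comm (⟨a.1, a.2⟩ : P) ⟨b.1, b.2⟩
  exact Subtype.ext (congrArg Subtype.val h)

/-- orthogonality of the vectors `a_χ(ψ)` to the columns of `p`-regular elements -/
theorem bl_reg (hM : Cfsg.IsPModular p M) (g : G) (hg : ¬ p ∣ orderOf g)
    (ψ : (P : Subgroup G) →* ℂˣ) :
    ∑ᶠ χ ∈ Cfsg.principalBlock M G,
      (χ : G → ℂ) g * blA (P : Subgroup G) (χ : G → ℂ) ψ = 0 := by
  classical
  haveI : Fintype G := Fintype.ofFinite G
  haveI : Fintype (P : Subgroup G) := Fintype.ofFinite _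
  obtain ⟨S, hS⟩ : ∃ S : Finset (IrrCharacter G),
      S = (Set.toFinite (principalBlock M G)).toFinset := ⟨_, rfl⟩
  have hfs : ∀ f : IrrCharacter G → ℂ,
      ∑ᶠ χ ∈ principalBlock M G, f χ = ∑ χ ∈ S, f χ := by
    intro f
    rw [hS]
    exact finsum_mem_eq_finite_toFinset_sum f _
  rw [hfs]
  have h1 : ∀ χ ∈ S, (χ : G → ℂ) g * blA (P : Subgroup G) (χ : G → ℂ) ψ =
      (Nat.card (P : Subgroup G) : ℂ)⁻¹ * ∑ y : (P : Subgroup G),
        (1 - ((ψ y : ℂˣ) : ℂ)) * ((χ : G → ℂ) g * (χ : G → ℂ) (y : G)⁻¹) := by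
    intro χ _
    rw [blA_inv, finsum_eq_sum_of_fintype, mul_left_comm, Finset.mul_sum]
    congr 1
    refine Finset.sum_congr rfl fun y _ => ?_
    ring
  rw [Finset.sum_congr rfl h1, ← Finset.mul_sum, Finset.sum_comm]
  have h2 : ∀ y : (P : Subgroup G), ∑ χ ∈ S,
      (1 - ((ψ y : ℂˣ) : ℂ)) * ((χ : G → ℂ) g * (χ : G → ℂ) (y : G)⁻¹) = 0 := by
    intro y
    rw [← Finset.mul_sum]
    by_cases hy : y = 1
    · rw [hy]
      simp
    · have hyG : ¬ IsConj (1 : G) (y : G) := by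
        rw [isConj_one_right]
        exact fun h => hy (Subtype.ext h)
      have h3 := block_orth_sum hM _ (Cfsg.Agent.Lib.Helper77.isPBlock_principalBlock M)
        (isPPart_one_of_regular hg) (bl_isPPart_self P (y : G) y.2) hyG
      rw [hfs] at h3
      rw [h3, mul_zero]
  rw [Finset.sum_congr rfl (fun y _ => h2 y), Finset.sum_const_zero, mul_zero]

/-- the Gram matrix -/
theorem bl_gram (hM : Cfsg.IsPModular p M) (hab : IsMulCommutative P)
    (hfrob : ∀ y : G, y ∈ (P : Subgroup G) → y ≠ 1 → Subgroup.centralizer ({y} : Set G) ⊓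
      Subgroup.normalizer ((P : Subgroup G) : Set G) =
        Subgroup.centralizer ((P : Subgroup G) : Set G))
    (ψ ψ' : (P : Subgroup G) →* ℂˣ) (hψ : ψ ≠ 1) (hψ' : ψ' ≠ 1)
    [Decidable (∃ n : Subgroup.normalizer ((P : Subgroup G) : Set G),
      blActL (P : Subgroup G) n ψ = ψ')] :
    ∑ᶠ χ ∈ Cfsg.principalBlock M G,
      blA (P : Subgroup G) (χ : G → ℂ) ψ * blA (P : Subgroup G) (χ : G → ℂ) ψ' =
      ((Subgroup.centralizer ((P : Subgroup G) : Set G)).relIndex
        (Subgroup.normalizer ((P : Subgroup G) : Set G)) : ℂ) +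
      if ∃ n : Subgroup.normalizer ((P : Subgroup G) : Set G),
        blActL (P : Subgroup G) n ψ = ψ' then 1 else 0 := by
  classical
  have hab' := bl_comm P hab
  haveI : Fintype G := Fintype.ofFinite G
  haveI : Fintype (P : Subgroup G) := Fintype.ofFinite _
  haveI : Fintype (Subgroup.normalizer ((P : Subgroup G) : Set G)) := Fintype.ofFinite _
  obtain ⟨S, hS⟩ : ∃ S : Finset (IrrCharacter G),
      S = (Set.toFinite (principalBlock M G)).toFinset := ⟨_, rfl⟩
  have hfs : ∀ f : IrrCharacter G → ℂ,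
      ∑ᶠ χ ∈ principalBlock M G, f χ = ∑ χ ∈ S, f χ := by
    intro f
    rw [hS]
    exact finsum_mem_eq_finite_toFinset_sum f _
  rw [hfs]
  obtain ⟨cP, hcP⟩ : ∃ cP : ℂ, cP = (Nat.card (P : Subgroup G) : ℂ) := ⟨_, rfl⟩
  have hcP0 : cP ≠ 0 := by
    rw [hcP]
    exact_mod_cast Nat.card_pos.ne'
  obtain ⟨C', hC'⟩ : ∃ C' : Subgroup (Subgroup.normalizer ((P : Subgroup G) : Set G)),
      C' = (Subgroup.centralizer ((P : Subgroup G) : Set G)).subgroupOf
        (Subgroup.normalizer ((P : Subgroup G) : Set G)) := ⟨_, rfl⟩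
  have hrel : (Subgroup.centralizer ((P : Subgroup G) : Set G)).relIndex
      (Subgroup.normalizer ((P : Subgroup G) : Set G)) = C'.index := by
    rw [hC']
    rfl
  rw [hrel]
  obtain ⟨c, hc⟩ : ∃ c : ℂ, c = (Nat.card C' : ℂ) := ⟨_, rfl⟩
  have hc0 : c ≠ 0 := by
    rw [hc]
    exact_mod_cast Nat.card_pos.ne'
  have hcN : (C'.index : ℂ) * c =
      (Fintype.card (Subgroup.normalizer ((P : Subgroup G) : Set G)) : ℂ) := by
    rw [hc, ← Nat.card_eq_fintype_card]
    exact_mod_cast C'.index_mul_card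
  obtain ⟨F, hF⟩ : ∃ F : ↥(P : Subgroup G) → ↥(P : Subgroup G) → ℂ,
      F = fun y y' => (1 - ((ψ y⁻¹ : ℂˣ) : ℂ)) * (1 - ((ψ' y' : ℂˣ) : ℂ)) := ⟨_, rfl⟩
  have hF1 : ∀ y' : (P : Subgroup G), F 1 y' = 0 := by
    intro y'
    rw [hF]
    simp
  have hF1' : ∀ y : (P : Subgroup G), F y 1 = 0 := by
    intro y
    rw [hF]
    simp
  -- step 1
  have h1 : ∀ χ ∈ S, blA (P : Subgroup G) (χ : G → ℂ) ψ * blA (P : Subgroup G) (χ : G → ℂ) ψ' =
      cP⁻¹ * cP⁻¹ * ∑ y : (P : Subgroup G), ∑ y' : (P : Subgroup G),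
        F y y' * ((χ : G → ℂ) y * (χ : G → ℂ) (y' : G)⁻¹) := by
    intro χ _
    rw [blA_inv (P : Subgroup G) (χ : G → ℂ) ψ']
    unfold blA
    rw [finsum_eq_sum_of_fintype, finsum_eq_sum_of_fintype, mul_mul_mul_comm, Finset.sum_mul_sum,
      ← hcP, hF]
    congr 1
    refine Finset.sum_congr rfl fun y _ => Finset.sum_congr rfl fun y' _ => ?_
    ring
  rw [Finset.sum_congr rfl h1, ← Finset.mul_sum, Finset.sum_comm]
  have h2 : ∀ y : (P : Subgroup G), ∑ χ ∈ S, ∑ y' : (P : Subgroup G),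
      F y y' * ((χ : G → ℂ) y * (χ : G → ℂ) (y' : G)⁻¹) =
      cP / c * ∑ n : Subgroup.normalizer ((P : Subgroup G) : Set G),
        F y (blCj (P : Subgroup G) n y) := by
    intro y
    rw [Finset.sum_comm]
    have h3 : ∀ y' : (P : Subgroup G), ∑ χ ∈ S,
        F y y' * ((χ : G → ℂ) y * (χ : G → ℂ) (y' : G)⁻¹) =
        cP / c * ∑ n : Subgroup.normalizer ((P : Subgroup G) : Set G),
          if blCj (P : Subgroup G) n y = y' then F y y' else 0 := by
      intro y'
      rw [← Finset.mul_sum]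
      by_cases hy1 : y = 1
      · rw [hy1, hF1]
        simp
      by_cases hy1' : y' = 1
      · rw [hy1', hF1']
        simp
      have hyG : (y : G) ≠ 1 := fun h => hy1 (Subtype.ext h)
      rw [← hfs (fun χ => (χ : G → ℂ) y * (χ : G → ℂ) (y' : G)⁻¹),
        bl_K P hM hab' hfrob y y' y.2 hyG y'.2, ← Finset.sum_filter, Finset.sum_const,
        bl_card_fiber (fun n w => blCj (P : Subgroup G) n w) (blCj_one (P : Subgroup G))
          (blCj_mul (P : Subgroup G)) y y' C'
          (by rw [hC']; exact bl_stabP (P : Subgroup G) hfrob y hyG)]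
      have hiff : IsConj (y : G) (y' : G) ↔
          ∃ n : Subgroup.normalizer ((P : Subgroup G) : Set G),
            blCj (P : Subgroup G) n y = y' :=
        ⟨bl_fusion P hab y y', fun ⟨n, hn⟩ => isConj_iff.mpr ⟨n, by rw [← hn]; rfl⟩⟩
      by_cases hcj : IsConj (y : G) (y' : G)
      · rw [if_pos hcj, if_pos (hiff.mp hcj), ← hcP, nsmul_eq_mul, ← hc]
        field_simp
      · rw [if_neg hcj, if_neg (fun h => hcj (hiff.mpr h))]
        simp
    rw [Finset.sum_congr rfl (fun y' _ => h3 y'), ← Finset.mul_sum, Finset.sum_comm]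
    congr 1
    refine Finset.sum_congr rfl fun n _ => ?_
    rw [Finset.sum_ite_eq Finset.univ (blCj (P : Subgroup G) n y) (fun y' => F y y'),
      if_pos (Finset.mem_univ _)]
  rw [Finset.sum_congr rfl (fun y _ => h2 y), ← Finset.mul_sum, Finset.sum_comm]
  -- step 5
  have hψinv : ψ⁻¹ ≠ 1 := by
    intro h
    apply hψ
    ext y
    have h' : (ψ⁻¹) y = (1 : (P : Subgroup G) →* ℂˣ) y := by rw [h]
    rw [MonoidHom.inv_apply, MonoidHom.one_apply, inv_eq_one] at h'
    rw [h', MonoidHom.one_apply]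
  have h5 : ∀ n : Subgroup.normalizer ((P : Subgroup G) : Set G),
      ∑ y : (P : Subgroup G), F y (blCj (P : Subgroup G) n y) =
        cP + if blActL (P : Subgroup G) n ψ = ψ' then cP else 0 := by
    intro n
    have e1 : ∑ y : (P : Subgroup G), ((ψ⁻¹ y : ℂˣ) : ℂ) = 0 := bl_sum_hom ψ⁻¹ hψinv
    have e2 : ∑ y : (P : Subgroup G),
        (((ψ'.comp (blCj (P : Subgroup G) n)) y : ℂˣ) : ℂ) = 0 := bl_sum_hom _ (by
      intro h
      apply hψ'
      ext w
      have h' : (ψ'.comp (blCj (P : Subgroup G) n)) (blCj (P : Subgroup G) n⁻¹ w) =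
          (1 : (P : Subgroup G) →* ℂˣ) (blCj (P : Subgroup G) n⁻¹ w) := by rw [h]
      rw [MonoidHom.comp_apply, blCj_cancel_inv, MonoidHom.one_apply] at h'
      rw [h', MonoidHom.one_apply])
    have e3 := bl_sum_hom_ite (ψ⁻¹ * ψ'.comp (blCj (P : Subgroup G) n))
    have e4 : (ψ⁻¹ * ψ'.comp (blCj (P : Subgroup G) n) = 1) ↔
        blActL (P : Subgroup G) n ψ = ψ' := by
      rw [blActL_eq_iff]
      constructor
      · intro h
        ext y
        have h' : (ψ⁻¹ * ψ'.comp (blCj (P : Subgroup G) n)) y =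
            (1 : (P : Subgroup G) →* ℂˣ) y := by rw [h]
        rw [MonoidHom.mul_apply, MonoidHom.inv_apply, MonoidHom.one_apply,
          inv_mul_eq_one] at h'
        rw [h']
      · intro h
        rw [h]
        ext y
        simp
    have e5 : ∑ y : (P : Subgroup G), F y (blCj (P : Subgroup G) n y) =
        ∑ _y : (P : Subgroup G), (1 : ℂ) - ∑ y : (P : Subgroup G), ((ψ⁻¹ y : ℂˣ) : ℂ) -
          ∑ y : (P : Subgroup G), (((ψ'.comp (blCj (P : Subgroup G) n)) y : ℂˣ) : ℂ) +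
          ∑ y : (P : Subgroup G),
            (((ψ⁻¹ * ψ'.comp (blCj (P : Subgroup G) n)) y : ℂˣ) : ℂ) := by
      rw [← Finset.sum_sub_distrib, ← Finset.sum_sub_distrib, ← Finset.sum_add_distrib, hF]
      refine Finset.sum_congr rfl fun y _ => ?_
      simp only [MonoidHom.inv_apply, MonoidHom.mul_apply, MonoidHom.comp_apply, map_inv,
        Units.val_mul]
      ring
    rw [e5, e1, e2, e3, Finset.sum_const, Finset.card_univ, nsmul_eq_mul, mul_one,
      ← Nat.card_eq_fintype_card, ← hcP, sub_zero, sub_zero]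
    by_cases h : blActL (P : Subgroup G) n ψ = ψ'
    · rw [if_pos h, if_pos (e4.mpr h)]
    · rw [if_neg h, if_neg (fun h' => h (e4.mp h'))]
  rw [Finset.sum_congr rfl (fun n _ => h5 n), Finset.sum_add_distrib, Finset.sum_const,
    Finset.card_univ, nsmul_eq_mul, ← Finset.sum_filter, Finset.sum_const,
    bl_card_fiber (fun n ψ => blActL (P : Subgroup G) n ψ) (blActL_one (P : Subgroup G))
      (blActL_mul (P : Subgroup G)) ψ ψ' C'
      (by rw [hC']; exact bl_stabL (P : Subgroup G) hab' hfrob ψ hψ),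
    ← hcN, nsmul_eq_mul]
  by_cases h : ∃ n : Subgroup.normalizer ((P : Subgroup G) : Set G),
      blActL (P : Subgroup G) n ψ = ψ'
  · rw [if_pos h, if_pos h, ← hc]
    field_simp
  · rw [if_neg h, if_neg h]
    simp only [Nat.cast_zero, zero_mul, add_zero]
    field_simp

end gram

end Cfsg.Agent.Lib.Helper78
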