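import Mathlib

/-!
The combinatorial core of the Brauer--Leonard analysis: an integral matrix whose Gram matrix is
`m J + I` and whose columns are orthogonal to a positive vector has a very special shape.
-/

set_option autoImplicit false

namespace Cfsg.Agent.Lib.Helper78

/-- an integer vector of norm 2 orthogonal to a positive vector is a difference of two basis
vectors -/
theorem bl_norm_two {ι : Type*} [Fintype ι] [DecidableEq ι] (b f : ι → ℤ) (hf : ∀ i, 0 < f i)
    (h2 : ∑ i, b i ^ 2 = 2) (h0 : ∑ i, f i * b i = 0) :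
    ∃ α β : ι, α ≠ β ∧ b α = 1 ∧ b β = -1 ∧ ∀ i, i ≠ α → i ≠ β → b i = 0 := by
  classical
  have hex : ∃ α, b α ≠ 0 := by
    by_contra h
    push Not at h
    simp [h] at h2
  obtain ⟨α, hα⟩ := hex
  have hsplit1 : b α ^ 2 + ∑ i ∈ Finset.univ.erase α, b i ^ 2 = 2 := by
    rw [Finset.add_sum_erase Finset.univ (fun i => b i ^ 2) (Finset.mem_univ α)]
    exact h2
  have hnn1 : 0 ≤ ∑ i ∈ Finset.univ.erase α, b i ^ 2 := Finset.sum_nonneg fun i _ => sq_nonneg _
  have hbα : b α = 1 ∨ b α = -1 := by
    have h4 : b α ≤ 1 := by nlinarith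
    have h5 : -1 ≤ b α := by nlinarith
    omega
  have hα2 : b α ^ 2 = 1 := by
    rcases hbα with h | h <;> rw [h] <;> norm_num
  have hsum1 : ∑ i ∈ Finset.univ.erase α, b i ^ 2 = 1 := by linarith
  have hex2 : ∃ β ∈ Finset.univ.erase α, b β ≠ 0 := by
    by_contra h
    push Not at h
    rw [Finset.sum_eq_zero (fun i hi => by rw [h i hi]; norm_num)] at hsum1
    norm_num at hsum1
  obtain ⟨β, hβmem, hβ⟩ := hex2
  have hsplit2 : b β ^ 2 + ∑ i ∈ (Finset.univ.erase α).erase β, b i ^ 2 = 1 := by
    rw [Finset.add_sum_erase (Finset.univ.erase α) (fun i => b i ^ 2) hβmem]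
    exact hsum1
  have hnn2 : 0 ≤ ∑ i ∈ (Finset.univ.erase α).erase β, b i ^ 2 :=
    Finset.sum_nonneg fun i _ => sq_nonneg _
  have hbβ : b β = 1 ∨ b β = -1 := by
    have h4 : b β ≤ 1 := by nlinarith
    have h5 : -1 ≤ b β := by nlinarith
    omega
  have hβ2 : b β ^ 2 = 1 := by
    rcases hbβ with h | h <;> rw [h] <;> norm_num
  have hsum2 : ∑ i ∈ (Finset.univ.erase α).erase β, b i ^ 2 = 0 := by linarith
  have hrest : ∀ i, i ≠ α → i ≠ β → b i = 0 := by
    intro i hi1 hi2
    have h3 := (Finset.sum_eq_zero_iff_of_nonneg (fun i _ => sq_nonneg (b i))).mp hsum2 i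
      (Finset.mem_erase.mpr ⟨hi2, Finset.mem_erase.mpr ⟨hi1, Finset.mem_univ _⟩⟩)
    exact pow_eq_zero_iff (two_ne_zero) |>.mp h3
  have hβα : β ≠ α := (Finset.mem_erase.mp hβmem).1
  have hdeg : f α * b α + f β * b β = 0 := by
    rw [← Finset.add_sum_erase Finset.univ (fun i => f i * b i) (Finset.mem_univ α),
      ← Finset.add_sum_erase (Finset.univ.erase α) (fun i => f i * b i) hβmem] at h0
    rw [Finset.sum_eq_zero] at h0
    · linarith
    · intro i hi
      rw [Finset.mem_erase, Finset.mem_erase] at hi
      rw [hrest i hi.2.1 hi.1, mul_zero]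
  have hfα := hf α
  have hfβ := hf β
  rcases hbα with h | h <;> rcases hbβ with h' | h'
  · rw [h, h'] at hdeg
    linarith
  · exact ⟨α, β, hβα.symm, h, h', hrest⟩
  · exact ⟨β, α, hβα, h', h, fun i h1 h2 => hrest i h2 h1⟩
  · rw [h, h'] at hdeg
    linarith

/-- the lattice lemma -/
theorem bl_lattice {ι κ : Type*} [Fintype ι] [Fintype κ] [DecidableEq ι] [DecidableEq κ]
    (a : ι → κ → ℤ) (f : ι → ℤ) (hf : ∀ i, 0 < f i) (m : ℤ)
    (hG : ∀ j k, ∑ i, a i j * a i k = m + if j = k then 1 else 0)
    (hdeg : ∀ j, ∑ i, f i * a i j = 0) (j0 j1 : κ) (h01 : j1 ≠ j0) :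
    ∃ (d δ : ℤ) (η : κ → ι), (δ = 1 ∨ δ = -1) ∧ Function.Injective η ∧
      (∀ j k, a (η j) k = d - if j = k then δ else 0) ∧
      (∀ i, (∀ j, η j ≠ i) → ∀ j k, a i j = a i k) := by
  classical
  have hb : ∀ j, j ≠ j0 → ∃ α β : ι, α ≠ β ∧ a α j - a α j0 = 1 ∧ a β j - a β j0 = -1 ∧
      ∀ i, i ≠ α → i ≠ β → a i j - a i j0 = 0 := by
    intro j hj
    apply bl_norm_two (fun i => a i j - a i j0) f hf
    · have e1 := hG j j
      have e2 := hG j j0
      have e3 := hG j0 j0
      rw [if_pos rfl] at e1 e3
      rw [if_neg hj] at e2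
      have e4 : ∑ i, (a i j - a i j0) ^ 2 =
          ∑ i, a i j * a i j - 2 * ∑ i, a i j * a i j0 + ∑ i, a i j0 * a i j0 := by
        rw [Finset.mul_sum, ← Finset.sum_sub_distrib, ← Finset.sum_add_distrib]
        exact Finset.sum_congr rfl fun i _ => by ring
      rw [e4, e1, e2, e3]
      ring
    · have e1 := hdeg j
      have e2 := hdeg j0
      have e4 : ∑ i, f i * (a i j - a i j0) = ∑ i, f i * a i j - ∑ i, f i * a i j0 := by
        rw [← Finset.sum_sub_distrib]
        exact Finset.sum_congr rfl fun i _ => by ring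
      rw [e4, e1, e2, sub_zero]
  haveI : Nonempty ι := ⟨(hb j1 h01).choose⟩
  choose! α β hαβ hα hβ hrest using hb
  have hsum : ∀ j, j ≠ j0 → ∀ g : ι → ℤ,
      ∑ i, (a i j - a i j0) * g i = g (α j) - g (β j) := by
    intro j hj g
    rw [← Finset.add_sum_erase Finset.univ (fun i => (a i j - a i j0) * g i)
        (Finset.mem_univ (α j)),
      ← Finset.add_sum_erase (Finset.univ.erase (α j)) (fun i => (a i j - a i j0) * g i)
        (Finset.mem_erase.mpr ⟨(hαβ j hj).symm, Finset.mem_univ (β j)⟩),
      hα j hj, hβ j hj, Finset.sum_eq_zero]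
    · ring
    · intro i hi
      rw [Finset.mem_erase, Finset.mem_erase] at hi
      rw [hrest j hj i hi.2.1 hi.1, zero_mul]
  have hkey : ∀ j, j ≠ j0 → a (α j) j0 - a (β j) j0 = -1 := by
    intro j hj
    rw [← hsum j hj (fun i => a i j0)]
    have e2 := hG j j0
    have e3 := hG j0 j0
    rw [if_pos rfl] at e3
    rw [if_neg hj] at e2
    have e4 : ∑ i, (a i j - a i j0) * a i j0 = ∑ i, a i j * a i j0 - ∑ i, a i j0 * a i j0 := by
      rw [← Finset.sum_sub_distrib]
      exact Finset.sum_congr rfl fun i _ => by ring
    rw [e4, e2, e3]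
    ring
  have hpair : ∀ j k, j ≠ j0 → k ≠ j0 → j ≠ k →
      (α j = α k ∧ β j ≠ β k) ∨ (β j = β k ∧ α j ≠ α k) := by
    intro j k hj hk hjk
    have e := hsum j hj (fun i => a i k - a i j0)
    have e' : ∑ i, (a i j - a i j0) * (a i k - a i j0) = 1 := by
      have e1 := hG j k
      have e2 := hG j j0
      have e3 := hG j0 k
      have e4 := hG j0 j0
      rw [if_neg hjk] at e1
      rw [if_neg hj] at e2
      rw [if_neg (Ne.symm hk)] at e3
      rw [if_pos rfl] at e4
      have e5 : ∑ i, (a i j - a i j0) * (a i k - a i j0) =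
          ∑ i, a i j * a i k - ∑ i, a i j * a i j0 - ∑ i, a i j0 * a i k +
            ∑ i, a i j0 * a i j0 := by
        rw [← Finset.sum_sub_distrib, ← Finset.sum_sub_distrib, ← Finset.sum_add_distrib]
        exact Finset.sum_congr rfl fun i _ => by ring
      rw [e5, e1, e2, e3, e4]
      ring
    rw [e'] at e
    have v : ∀ i, a i k - a i j0 = (if i = α k then 1 else 0) - (if i = β k then 1 else 0) := by
      intro i
      by_cases h1 : i = α k
      · rw [h1, if_pos rfl, if_neg (hαβ k hk), hα k hk]
        ring
      · by_cases h2 : i = β k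
        · rw [h2, if_neg (hαβ k hk).symm, if_pos rfl, hβ k hk]
          ring
        · rw [if_neg h1, if_neg h2, hrest k hk i h1 h2]
          ring
    have e2 : (1 : ℤ) = ((if α j = α k then 1 else 0) - (if α j = β k then 1 else 0)) -
        ((if β j = α k then 1 else 0) - (if β j = β k then 1 else 0)) := by
      rw [← v (α j), ← v (β j)]
      exact e
    have hne := hαβ j hj
    have hne' := hαβ k hk
    by_cases c1 : α j = α k
    · left
      refine ⟨c1, fun c2 => ?_⟩
      have c3 : ¬ α j = β k := fun h => hne' (c1.symm.trans h)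
      have c4 : ¬ β j = α k := fun h => hne (c1.trans h.symm)
      rw [if_pos c1, if_neg c3, if_neg c4, if_pos c2] at e2
      omega
    · right
      refine ⟨?_, c1⟩
      by_contra c2
      rw [if_neg c1, if_neg c2] at e2
      split_ifs at e2 <;> omega
  have hdich : (∀ j k, j ≠ j0 → k ≠ j0 → α j = α k) ∨ (∀ j k, j ≠ j0 → k ≠ j0 → β j = β k) := by
    by_contra hcon
    push Not at hcon
    obtain ⟨⟨j, k, hj, hk, hjk⟩, ⟨j', k', hj', hk', hjk'⟩⟩ := hcon
    have hjk2 : j ≠ k := fun h => hjk (by rw [h])
    have hβjk : β j = β k := by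
      rcases hpair j k hj hk hjk2 with h | h
      · exact absurd h.1 hjk
      · exact h.1
    have hall : ∀ l, l ≠ j0 → β l = β j := by
      intro l hl
      by_cases hlj : l = j
      · rw [hlj]
      by_cases hlk : l = k
      · rw [hlk, hβjk]
      rcases hpair l j hl hj hlj with h | h
      · rcases hpair l k hl hk hlk with h' | h'
        · exact absurd (h.1.symm.trans h'.1) hjk
        · rw [h'.1, hβjk]
      · exact h.1
    exact hjk' ((hall j' hj').trans (hall k' hk').symm)
  rcases hdich with hA | hB
  · -- all `α` equal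
    have hβinj : ∀ j k, j ≠ j0 → k ≠ j0 → β j = β k → j = k := by
      intro j k hj hk h
      by_contra hjk
      rcases hpair j k hj hk hjk with h' | h'
      · exact h'.2 h
      · exact h'.2 (hA j k hj hk)
    refine ⟨a (α j1) j0 + 1, 1, fun j => if j = j0 then α j1 else β j, Or.inl rfl, ?_, ?_, ?_⟩
    · intro j k hjk
      dsimp only at hjk
      by_cases hj : j = j0 <;> by_cases hk : k = j0
      · rw [hj, hk]
      · rw [if_pos hj, if_neg hk, hA j1 k h01 hk] at hjk
        exact absurd hjk (hαβ k hk)
      · rw [if_neg hj, if_pos hk, hA j1 j h01 hj] at hjk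
        exact absurd hjk.symm (hαβ j hj)
      · rw [if_neg hj, if_neg hk] at hjk
        exact hβinj j k hj hk hjk
    · intro j k
      dsimp only
      by_cases hj : j = j0
      · rw [if_pos hj]
        by_cases hk : k = j0
        · rw [if_pos (hj.trans hk.symm), hk]
          ring
        · rw [if_neg (fun h : j = k => hk (h.symm.trans hj))]
          have h1 := hα k hk
          rw [hA k j1 hk h01] at h1
          linarith
      · rw [if_neg hj]
        have hc : a (β j) j0 = a (α j1) j0 + 1 := by
          have h1 := hkey j hj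
          rw [hA j j1 hj h01] at h1
          linarith
        by_cases hk : k = j0
        · rw [if_neg (fun h => hj (h.trans hk)), hk, hc]
          ring
        · by_cases hjk : j = k
          · rw [if_pos hjk, ← hjk]
            have h1 := hβ j hj
            linarith
          · rw [if_neg hjk]
            have h1 := hrest k hk (β j) (fun h => hαβ j hj ((hA j k hj hk).trans h.symm))
              (fun h => hjk (hβinj j k hj hk h))
            linarith
    · intro i hi j k
      have hc : ∀ l, a i l = a i j0 := by
        intro l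
        by_cases hl : l = j0
        · rw [hl]
        · have h1 := hrest l hl i
            (fun h => hi j0 (by
              show (if j0 = j0 then α j1 else β j0) = i
              rw [if_pos rfl, h, hA l j1 hl h01]))
            (fun h => hi l (by
              show (if l = j0 then α j1 else β l) = i
              rw [if_neg hl, h]))
          linarith
      rw [hc j, hc k]
  · -- all `β` equal
    have hαinj : ∀ j k, j ≠ j0 → k ≠ j0 → α j = α k → j = k := by
      intro j k hj hk h
      by_contra hjk
      rcases hpair j k hj hk hjk with h' | h'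
      · exact h'.2 (hB j k hj hk)
      · exact h'.2 h
    refine ⟨a (β j1) j0 - 1, -1, fun j => if j = j0 then β j1 else α j, Or.inr rfl, ?_, ?_, ?_⟩
    · intro j k hjk
      dsimp only at hjk
      by_cases hj : j = j0 <;> by_cases hk : k = j0
      · rw [hj, hk]
      · rw [if_pos hj, if_neg hk, hB j1 k h01 hk] at hjk
        exact absurd hjk.symm (hαβ k hk)
      · rw [if_neg hj, if_pos hk, hB j1 j h01 hj] at hjk
        exact absurd hjk (hαβ j hj)
      · rw [if_neg hj, if_neg hk] at hjk
        exact hαinj j k hj hk hjk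
    · intro j k
      dsimp only
      by_cases hj : j = j0
      · rw [if_pos hj]
        by_cases hk : k = j0
        · rw [if_pos (hj.trans hk.symm), hk]
          ring
        · rw [if_neg (fun h : j = k => hk (h.symm.trans hj))]
          have h1 := hβ k hk
          rw [hB k j1 hk h01] at h1
          linarith
      · rw [if_neg hj]
        have hc : a (α j) j0 = a (β j1) j0 - 1 := by
          have h1 := hkey j hj
          rw [hB j j1 hj h01] at h1
          linarith
        by_cases hk : k = j0
        · rw [if_neg (fun h => hj (h.trans hk)), hk, hc]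
          ring
        · by_cases hjk : j = k
          · rw [if_pos hjk, ← hjk]
            have h1 := hα j hj
            linarith
          · rw [if_neg hjk]
            have h1 := hrest k hk (α j) (fun h => hjk (hαinj j k hj hk h))
              (fun h => hαβ j hj (h.trans (hB k j hk hj)))
            linarith
    · intro i hi j k
      have hc : ∀ l, a i l = a i j0 := by
        intro l
        by_cases hl : l = j0
        · rw [hl]
        · have h1 := hrest l hl i
            (fun h => hi l (by
              show (if l = j0 then β j1 else α l) = i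
              rw [if_neg hl, h]))
            (fun h => hi j0 (by
              show (if j0 = j0 then β j1 else α j0) = i
              rw [if_pos rfl, h, hB l j1 hl h01]))
          linarith
      rw [hc j, hc k]

/-- splitting a sum along an injection -/
theorem bl_sum_split {ι κ M : Type*} [Fintype ι] [Fintype κ] [DecidableEq ι] [AddCommMonoid M]
    (η : κ → ι) (hη : Function.Injective η) (F : ι → M) :
    ∑ i, F i = ∑ q, F (η q) + ∑ i ∈ Finset.univ.filter (fun i => ∀ q, η q ≠ i), F i := by
  classical
  rw [← Finset.sum_filter_add_sum_filter_not Finset.univ (fun i => ∃ q, η q = i) F]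
  congr 1
  · rw [← Finset.sum_image (s := Finset.univ) (g := η) (f := F) (fun x _ y _ h => hη h)]
    refine Finset.sum_congr ?_ fun _ _ => rfl
    ext i
    simp
  · refine Finset.sum_congr ?_ fun _ _ => rfl
    ext i
    simp

end Cfsg.Agent.Lib.Helper78
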