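import Mathlib
import Cfsg.Prelude.Def_Blocks
import Cfsg.Agent.Lib.Helper78.BLGram
import Cfsg.Agent.Lib.Helper78.BLLattice

/-!
The Brauer--Leonard structure theorem for the principal block of a group with an abelian Sylow
`p`-subgroup `P` such that `N_G(P)/C_G(P)` acts semiregularly on `P`.
-/

set_option autoImplicit false

namespace Cfsg.Agent.Lib.Helper78

open Cfsg

section setoid

variable {G : Type*} [Group G]

/-- the orbit relation on the nontrivial linear characters of `P` -/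
def blSetoid (P : Subgroup G) : Setoid {ψ : P →* ℂˣ // ψ ≠ 1} where
  r ψ ψ' := ∃ n : Subgroup.normalizer (P : Set G), blActL P n ψ.1 = ψ'.1
  iseqv :=
    ⟨fun ψ => ⟨1, blActL_one P ψ.1⟩,
      fun {ψ ψ'} ⟨n, hn⟩ => ⟨n⁻¹, by rw [← hn, ← blActL_mul, inv_mul_cancel, blActL_one]⟩,
      fun {ψ ψ' ψ''} ⟨n, hn⟩ ⟨n', hn'⟩ => ⟨n' * n, by rw [blActL_mul, hn, hn']⟩⟩

/-- the orbits -/
abbrev blOrb (P : Subgroup G) : Type _ := Quotient (blSetoid P)

theorem blOrb_eq_iff (P : Subgroup G) (ψ ψ' : {ψ : P →* ℂˣ // ψ ≠ 1}) :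
    Quotient.mk (blSetoid P) ψ = Quotient.mk (blSetoid P) ψ' ↔
      ∃ n : Subgroup.normalizer (P : Set G), blActL P n ψ.1 = ψ'.1 :=
  Quotient.eq (r := blSetoid P)

/-- the integer `a_χ(ψ)` -/
noncomputable def blAInt (P : Subgroup G) (χ : G → ℂ) (ψ : P →* ℂˣ) : ℤ :=
  ⌊(blA P χ ψ).re⌋

theorem blAInt_cast [Finite G] (P : Subgroup G) {χ : G → ℂ} (hχ : IsCharacter G χ)
    (ψ : P →* ℂˣ) : ((blAInt P χ ψ : ℤ) : ℂ) = blA P χ ψ := by
  obtain ⟨k, hk⟩ := blA_int P hχ ψ
  unfold blAInt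
  rw [hk]
  simp

end setoid

section main

variable {G : Type*} [Group G] [Finite G] {p : ℕ} [Fact p.Prime] (M : Ideal Cfsg.AlgInt)
  (P : Sylow p G)

open scoped Classical in
/-- the shape of the principal block -/
def BLData (d δ : ℤ) (η : blOrb (P : Subgroup G) → IrrCharacter G) : Prop :=
  (δ = 1 ∨ δ = -1) ∧ Function.Injective η ∧ (∀ q, η q ∈ principalBlock M G) ∧
  (∀ (q : blOrb (P : Subgroup G)) (ψ : {ψ : (P : Subgroup G) →* ℂˣ // ψ ≠ 1}),
    blA (P : Subgroup G) (η q : G → ℂ) ψ.1 =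
      ((d - if q = Quotient.mk (blSetoid (P : Subgroup G)) ψ then δ else 0 : ℤ) : ℂ)) ∧
  (∀ χ ∈ principalBlock M G, (∀ q, η q ≠ χ) →
    ∀ ψ ψ' : {ψ : (P : Subgroup G) →* ℂˣ // ψ ≠ 1},
      blA (P : Subgroup G) (χ : G → ℂ) ψ.1 = blA (P : Subgroup G) (χ : G → ℂ) ψ'.1)

omit [Fact p.Prime] in
/-- the number of orbits -/
theorem bl_card_orb (hab : IsMulCommutative P) (m : ℕ)
    (hCN : (Subgroup.centralizer ((P : Subgroup G) : Set G)).relIndex
      (Subgroup.normalizer ((P : Subgroup G) : Set G)) = m)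
    (hfrob : ∀ y : G, y ∈ (P : Subgroup G) → y ≠ 1 → Subgroup.centralizer ({y} : Set G) ⊓
      Subgroup.normalizer ((P : Subgroup G) : Set G) =
        Subgroup.centralizer ((P : Subgroup G) : Set G)) :
    Nat.card (blOrb (P : Subgroup G)) * m = Nat.card (P : Subgroup G) - 1 := by
  classical
  have hab' := bl_comm P hab
  haveI : Finite ((P : Subgroup G) →* ℂˣ) := Cfsg.Agent.Lib.Helper79.finite_monoidHom_units
  haveI : Fintype ((P : Subgroup G) →* ℂˣ) := Fintype.ofFinite _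
  haveI : Fintype {ψ : (P : Subgroup G) →* ℂˣ // ψ ≠ 1} := Fintype.ofFinite _
  haveI : Fintype (blOrb (P : Subgroup G)) := Fintype.ofFinite _
  haveI : Fintype (Subgroup.normalizer ((P : Subgroup G) : Set G)) := Fintype.ofFinite _
  have h1 : Fintype.card {ψ : (P : Subgroup G) →* ℂˣ // ψ ≠ 1} =
      Nat.card (P : Subgroup G) - 1 := by
    rw [Fintype.card_subtype_compl, Fintype.card_subtype_eq, ← Nat.card_eq_fintype_card,
      bl_card_dual hab']
  rw [← h1, ← Finset.card_univ,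
    Finset.card_eq_sum_card_fiberwise (f := fun ψ => Quotient.mk (blSetoid (P : Subgroup G)) ψ)
      (s := Finset.univ) (t := Finset.univ) (fun _ _ => Finset.mem_univ _)]
  have h2 : ∀ q ∈ (Finset.univ : Finset (blOrb (P : Subgroup G))),
      (Finset.univ.filter (fun ψ : {ψ : (P : Subgroup G) →* ℂˣ // ψ ≠ 1} =>
        Quotient.mk (blSetoid (P : Subgroup G)) ψ = q)).card = m := by
    intro q _
    obtain ⟨ψ₀, rfl⟩ := Quotient.exists_rep q
    have h3 := bl_card_orbit (fun n ψ => blActL (P : Subgroup G) n ψ)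
      (blActL_one (P : Subgroup G)) (blActL_mul (P : Subgroup G)) ψ₀.1
      ((Subgroup.centralizer ((P : Subgroup G) : Set G)).subgroupOf
        (Subgroup.normalizer ((P : Subgroup G) : Set G)))
      (bl_stabL (P : Subgroup G) hab' hfrob ψ₀.1 ψ₀.2)
    have h4 := Subgroup.index_mul_card ((Subgroup.centralizer ((P : Subgroup G) : Set G)).subgroupOf
        (Subgroup.normalizer ((P : Subgroup G) : Set G)))
    rw [Nat.card_eq_fintype_card (α := Subgroup.normalizer ((P : Subgroup G) : Set G)), ← h3] at h4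
    have h5 : (Subgroup.centralizer ((P : Subgroup G) : Set G)).relIndex
      (Subgroup.normalizer ((P : Subgroup G) : Set G)) =
        ((Subgroup.centralizer ((P : Subgroup G) : Set G)).subgroupOf
        (Subgroup.normalizer ((P : Subgroup G) : Set G))).index := rfl
    rw [← h5, hCN] at h4
    have h6 := Nat.eq_of_mul_eq_mul_right Nat.card_pos h4
    rw [h6, ← Finset.card_map (Function.Embedding.subtype _)]
    congr 1
    ext ψ'
    simp only [Finset.mem_map, Finset.mem_filter, Finset.mem_univ, true_and,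
      Function.Embedding.coe_subtype]
    constructor
    · rintro ⟨ψ, hψ, rfl⟩
      obtain ⟨n, hn⟩ := (blOrb_eq_iff (P : Subgroup G) ψ ψ₀).mp hψ
      exact ⟨n⁻¹, by rw [← hn, ← blActL_mul, inv_mul_cancel, blActL_one]⟩
    · rintro ⟨n, hn⟩
      refine ⟨⟨ψ', ?_⟩, ?_, rfl⟩
      · rw [← hn]
        exact blActL_ne_one (P : Subgroup G) n ψ₀.1 ψ₀.2
      · exact ((blOrb_eq_iff (P : Subgroup G) ψ₀ _).mpr ⟨n, hn⟩).symm
  rw [Finset.sum_congr rfl h2, Finset.sum_const, smul_eq_mul, Finset.card_univ,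
    Nat.card_eq_fintype_card]

/-- existence of the Brauer--Leonard data -/
theorem bl_exists (hM : Cfsg.IsPModular p M) (hab : IsMulCommutative P) (m : ℕ)
    (hm2 : m + 1 < Nat.card (P : Subgroup G))
    (hCN : (Subgroup.centralizer ((P : Subgroup G) : Set G)).relIndex
      (Subgroup.normalizer ((P : Subgroup G) : Set G)) = m)
    (hfrob : ∀ y : G, y ∈ (P : Subgroup G) → y ≠ 1 → Subgroup.centralizer ({y} : Set G) ⊓
      Subgroup.normalizer ((P : Subgroup G) : Set G) =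
        Subgroup.centralizer ((P : Subgroup G) : Set G)) :
    ∃ (d δ : ℤ) (η : blOrb (P : Subgroup G) → IrrCharacter G), BLData M P d δ η := by
  classical
  have hp : p.Prime := hM.1
  haveI : Finite ((P : Subgroup G) →* ℂˣ) := Cfsg.Agent.Lib.Helper79.finite_monoidHom_units
  haveI : Fintype (blOrb (P : Subgroup G)) := Fintype.ofFinite _
  haveI : Fintype {χ : IrrCharacter G // χ ∈ principalBlock M G} := Fintype.ofFinite _
  have hcard := bl_card_orb P hab m hCN hfrob
  have hκ : 1 < Fintype.card (blOrb (P : Subgroup G)) := by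
    rw [← Nat.card_eq_fintype_card]
    by_contra h
    push Not at h
    have h2 : Nat.card (blOrb (P : Subgroup G)) * m ≤ 1 * m := Nat.mul_le_mul_right m h
    omega
  obtain ⟨j0, j1, h01⟩ := Fintype.exists_pair_of_one_lt_card hκ
  have hchar : ∀ χ : IrrCharacter G, IsCharacter G (χ : G → ℂ) := fun χ =>
    Cfsg.Agent.Lib.Helper80.isCharacter_of_isIrrCharacter χ.2
  obtain ⟨a, ha⟩ : ∃ a : {χ : IrrCharacter G // χ ∈ principalBlock M G} →
      blOrb (P : Subgroup G) → ℤ, ∀ χ ψ,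
        ((a χ (Quotient.mk (blSetoid (P : Subgroup G)) ψ) : ℤ) : ℂ) =
          blA (P : Subgroup G) (χ.1 : G → ℂ) ψ.1 := by
    refine ⟨fun χ q => Quotient.liftOn q
      (fun ψ => blAInt (P : Subgroup G) (χ.1 : G → ℂ) ψ.1) ?_, ?_⟩
    · rintro ψ ψ' ⟨n, hn⟩
      show blAInt _ _ ψ.1 = blAInt _ _ ψ'.1
      unfold blAInt
      rw [← hn, blA_act _ (Cfsg.Agent.Lib.Helper3.isClassFunction_of_isCharacter (hchar χ.1))]
    · intro χ ψ
      exact blAInt_cast _ (hchar χ.1) _
  have hG : ∀ j k, ∑ i, a i j * a i k = (m : ℤ) + if j = k then 1 else 0 := by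
    intro j k
    obtain ⟨ψ, rfl⟩ := Quotient.exists_rep j
    obtain ⟨ψ', rfl⟩ := Quotient.exists_rep k
    apply Int.cast_injective (α := ℂ)
    push_cast
    rw [Finset.sum_congr rfl (fun i _ => by rw [ha, ha])]
    have hg := bl_gram P hM hab hfrob ψ.1 ψ'.1 ψ.2 ψ'.2
    rw [hCN] at hg
    rw [← finsum_eq_sum_of_fintype,
      finsum_set_coe_eq_finsum_mem (s := principalBlock M G)
        (f := fun χ : IrrCharacter G =>
          blA (P : Subgroup G) (χ : G → ℂ) ψ.1 * blA (P : Subgroup G) (χ : G → ℂ) ψ'.1),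
      hg]
    congr 1
    by_cases h : Quotient.mk (blSetoid (P : Subgroup G)) ψ = Quotient.mk (blSetoid (P : Subgroup G)) ψ'
    · rw [if_pos h, if_pos ((blOrb_eq_iff _ _ _).mp h)]
    · rw [if_neg h, if_neg (fun h' => h ((blOrb_eq_iff _ _ _).mpr h'))]
  have hdeg : ∀ j, ∑ i : {χ : IrrCharacter G // χ ∈ principalBlock M G},
      ((charDegree (i.1 : G → ℂ) : ℕ) : ℤ) * a i j = 0 := by
    intro j
    obtain ⟨ψ, rfl⟩ := Quotient.exists_rep j
    apply Int.cast_injective (α := ℂ)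
    push_cast
    rw [Finset.sum_congr rfl (fun i _ => by
      rw [ha, ← Cfsg.Agent.Lib.Helper80.char_one_eq_charDegree (hchar i.1)])]
    have hg := bl_reg P hM (1 : G) (by
      rw [orderOf_one]
      exact hp.one_lt.ne' ∘ Nat.dvd_one.mp) ψ.1
    rw [← finsum_eq_sum_of_fintype,
      finsum_set_coe_eq_finsum_mem (s := principalBlock M G)
        (f := fun χ : IrrCharacter G => (χ : G → ℂ) 1 * blA (P : Subgroup G) (χ : G → ℂ) ψ.1), hg]
  obtain ⟨d, δ, η', hδ, hinj, hval, hoth⟩ := bl_lattice a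
    (fun i => ((charDegree (i.1 : G → ℂ) : ℕ) : ℤ))
    (fun i => by exact_mod_cast Cfsg.Agent.Lib.Helper80.charDegree_pos i.1.2)
    (m : ℤ) hG hdeg j0 j1 h01.symm
  refine ⟨d, δ, fun q => (η' q).1, hδ, fun q q' h => hinj (Subtype.ext h), fun q => (η' q).2, ?_, ?_⟩
  · intro q ψ
    rw [← ha, hval]
  · intro χ hχ hne ψ ψ'
    have h1 := hoth ⟨χ, hχ⟩ (fun q h => hne q (congrArg Subtype.val h))
      (Quotient.mk (blSetoid (P : Subgroup G)) ψ) (Quotient.mk (blSetoid (P : Subgroup G)) ψ')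
    have h2 := ha ⟨χ, hχ⟩ ψ
    have h3 := ha ⟨χ, hχ⟩ ψ'
    rw [← h2, ← h3, h1]

end main

end Cfsg.Agent.Lib.Helper78
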