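import Mathlib
import Cfsg.Prelude.Def_Blocks
import Cfsg.Agent.Lib.Helper78.BLMain

/-!
Consequences of the Brauer--Leonard data: the statements about the principal block.
-/

set_option autoImplicit false

namespace Cfsg.Agent.Lib.Helper78

open Cfsg

section package

variable {G : Type*} [Group G] [Finite G] {p : ℕ} [Fact p.Prime] (M : Ideal Cfsg.AlgInt)
  (P : Sylow p G)

set_option maxHeartbeats 1600000 in
theorem bl_package (hM : Cfsg.IsPModular p M) (hab : IsMulCommutative P)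
    (hP1 : Nat.card (P : Subgroup G) ≠ 1) (m : ℕ)
    (hm2 : m + 1 < Nat.card (P : Subgroup G))
    (hCN : (Subgroup.centralizer ((P : Subgroup G) : Set G)).relIndex
      (Subgroup.normalizer ((P : Subgroup G) : Set G)) = m)
    (hfrob : ∀ y : G, y ∈ (P : Subgroup G) → y ≠ 1 → Subgroup.centralizer ({y} : Set G) ⊓
      Subgroup.normalizer ((P : Subgroup G) : Set G) =
        Subgroup.centralizer ((P : Subgroup G) : Set G))
    (d δ : ℤ) (η : blOrb (P : Subgroup G) → IrrCharacter G) (hD : BLData M P d δ η) :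
    ∃ (X Y : Set (Cfsg.IrrCharacter G)) (a : Cfsg.IrrCharacter G → ℤ)
      (ζ : (↥(P : Subgroup G) →* ℂˣ) → Cfsg.IrrCharacter G),
      Nat.card X ≤ m ∧ Cfsg.principalBlock M G = X ∪ Y ∧ Disjoint X Y ∧
      Nat.card Y = (Nat.card (P : Subgroup G) - 1) / m ∧
      (∃ χ₁ ∈ X, (χ₁ : G → ℂ) = fun _ => 1) ∧
      (∀ χ ∈ X, a χ ≠ 0 ∧ ∀ z y : G, Cfsg.IsPPart p z y → y ∈ (P : Subgroup G) → y ≠ 1 →
        (χ : G → ℂ) z = (a χ : ℂ)) ∧
      (∀ ψ : ↥(P : Subgroup G) →* ℂˣ, ψ ≠ 1 → ζ ψ ∈ Y) ∧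
      (∀ η ∈ Y, ∃ ψ : ↥(P : Subgroup G) →* ℂˣ, ψ ≠ 1 ∧ ζ ψ = η) ∧
      (∀ ψ ψ' : ↥(P : Subgroup G) →* ℂˣ, ψ ≠ 1 →
        (∃ n : G, n ∈ Subgroup.normalizer ((P : Subgroup G) : Set G) ∧
          ∀ w w' : ↥(P : Subgroup G), (w' : G) = n * w * n⁻¹ → ψ' w' = ψ w) → ζ ψ' = ζ ψ) ∧
      (∀ ψ : ↥(P : Subgroup G) →* ℂˣ, ψ ≠ 1 → ∀ (z : G) (y : ↥(P : Subgroup G)),
        Cfsg.IsPPart p z (y : G) → (y : G) ≠ 1 →
        (ζ ψ : G → ℂ) z = (d : ℂ) + (δ : ℂ) *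
          ∑ᶠ ψ' ∈ {ψ' : ↥(P : Subgroup G) →* ℂˣ |
            ∃ n : G, n ∈ Subgroup.normalizer ((P : Subgroup G) : Set G) ∧
              ∀ w w' : ↥(P : Subgroup G), (w' : G) = n * w * n⁻¹ → ψ' w' = ψ w},
            ((ψ' y : ℂˣ) : ℂ)) ∧
      ((d - δ) ^ 2 + ((Nat.card (P : Subgroup G) - 1) / m - 1 : ℤ) * d ^ 2 +
        ∑ᶠ χ ∈ X, a χ ^ 2 = (m : ℤ) + 1) ∧
      (∀ η ∈ Y, ∀ η' ∈ Y, ∀ g : G, ¬ p ∣ orderOf g → (η : G → ℂ) g = (η' : G → ℂ) g) ∧
      (∀ η ∈ Y, ∀ g : G, ¬ p ∣ orderOf g →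
        ((((Nat.card (P : Subgroup G) - 1) / m : ℕ) : ℂ) * d - δ) * (η : G → ℂ) g +
          ∑ᶠ χ ∈ X, (a χ : ℂ) * (χ : G → ℂ) g = 0) ∧
      Y = Set.range η ∧ X = Cfsg.principalBlock M G \ Set.range η ∧
      (∀ (ψ : ↥(P : Subgroup G) →* ℂˣ) (h : ψ ≠ 1),
        ζ ψ = η (Quotient.mk (blSetoid (P : Subgroup G)) ⟨ψ, h⟩)) ∧
      Cfsg.Agent.Lib.Helper77.trivIrr G ∈ X := by
  classical
  have hab' := bl_comm P hab
  have hp : p.Prime := hM.1
  have hPr := Cfsg.Agent.Lib.Helper16.isPrime_of_isPModular hM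
  obtain ⟨hδ, hinj, hmem, hval, hoth⟩ := hD
  haveI : Finite ((P : Subgroup G) →* ℂˣ) := Cfsg.Agent.Lib.Helper79.finite_monoidHom_units
  haveI : Fintype ((P : Subgroup G) →* ℂˣ) := Fintype.ofFinite _
  haveI : Fintype (blOrb (P : Subgroup G)) := Fintype.ofFinite _
  haveI : Fintype G := Fintype.ofFinite G
  haveI : Fintype (P : Subgroup G) := Fintype.ofFinite _
  have hchar : ∀ χ : IrrCharacter G, IsCharacter G (χ : G → ℂ) := fun χ =>
    Cfsg.Agent.Lib.Helper80.isCharacter_of_isIrrCharacter χ.2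
  have hcard := bl_card_orb P hab m hCN hfrob
  have hm0 : 0 < m := by
    rcases Nat.eq_zero_or_pos m with h | h
    · rw [h, mul_zero] at hcard
      omega
    · exact h
  have hr : (Nat.card (P : Subgroup G) - 1) / m = Nat.card (blOrb (P : Subgroup G)) := by
    rw [← hcard]
    exact Nat.mul_div_cancel _ hm0
  have hκ2 : 2 ≤ Nat.card (blOrb (P : Subgroup G)) := by
    by_contra h
    push Not at h
    have h2 : Nat.card (blOrb (P : Subgroup G)) * m ≤ 1 * m := Nat.mul_le_mul_right m (by omega)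
    omega
  have hrZ : ((Nat.card (P : Subgroup G) : ℤ) - 1) / (m : ℤ) =
      (Nat.card (blOrb (P : Subgroup G)) : ℤ) := by
    have h1 : ((Nat.card (P : Subgroup G) : ℤ) - 1) =
        (Nat.card (blOrb (P : Subgroup G)) : ℤ) * (m : ℤ) := by
      have h2 : 1 ≤ Nat.card (P : Subgroup G) := Nat.card_pos
      zify [h2] at hcard
      linarith
    rw [h1]
    exact Int.mul_ediv_cancel _ (by exact_mod_cast hm0.ne')
  obtain ⟨q0, q1, h01⟩ : ∃ q0 q1 : blOrb (P : Subgroup G), q0 ≠ q1 :=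
    Fintype.exists_pair_of_one_lt_card (by rw [← Nat.card_eq_fintype_card]; omega)
  obtain ⟨ψ₀, hψ₀⟩ := Quotient.exists_rep q0
  obtain ⟨ψ₁, hψ₁⟩ := Quotient.exists_rep q1
  obtain ⟨y₀, hy₀⟩ : ∃ y₀ : (P : Subgroup G), y₀ ≠ 1 := by
    by_contra h
    push Not at h
    exact hP1 (Nat.card_eq_one_iff_unique.mpr
      ⟨⟨fun a b => (h a).trans (h b).symm⟩, ⟨1⟩⟩)
  have hy₀G : (y₀ : G) ≠ 1 := fun h => hy₀ (Subtype.ext h)
  have hδ0 : (δ : ℂ) ≠ 0 := by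
    rcases hδ with h | h <;> rw [h] <;> norm_num
  have hδ2 : δ ^ 2 = 1 := by
    rcases hδ with h | h <;> rw [h] <;> norm_num
  -- the objects
  obtain ⟨Y, hY⟩ : ∃ Y : Set (IrrCharacter G), Y = Set.range η := ⟨_, rfl⟩
  obtain ⟨X, hX⟩ : ∃ X : Set (IrrCharacter G), X = principalBlock M G \ Y := ⟨_, rfl⟩
  obtain ⟨a, ha⟩ : ∃ a : IrrCharacter G → ℤ,
      a = fun χ : IrrCharacter G => blAInt (P : Subgroup G) (χ : G → ℂ) ψ₀.1 := ⟨_, rfl⟩
  obtain ⟨ζ, hζ⟩ : ∃ ζ : ((P : Subgroup G) →* ℂˣ) → IrrCharacter G,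
      ζ = fun ψ => if h : ψ ≠ 1 then η (Quotient.mk (blSetoid (P : Subgroup G)) ⟨ψ, h⟩)
        else η q0 := ⟨_, rfl⟩
  have hζ1 : ∀ (ψ : (P : Subgroup G) →* ℂˣ) (h : ψ ≠ 1),
      ζ ψ = η (Quotient.mk (blSetoid (P : Subgroup G)) ⟨ψ, h⟩) := by
    intro ψ h
    rw [hζ]
    exact dif_pos h
  have hYmem : ∀ q, η q ∈ Y := fun q => by rw [hY]; exact ⟨q, rfl⟩
  have hXB : ∀ χ ∈ X, χ ∈ principalBlock M G := fun χ hχ => by
    rw [hX] at hχ
    exact hχ.1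
  have hXY : ∀ χ ∈ X, ∀ q, η q ≠ χ := fun χ hχ q h => by
    rw [hX] at hχ
    exact hχ.2 (h ▸ hYmem q)
  have hUnion : principalBlock M G = X ∪ Y := by
    rw [hX]
    ext χ
    constructor
    · intro h
      by_cases h2 : χ ∈ Y
      · exact Or.inr h2
      · exact Or.inl ⟨h, h2⟩
    · rintro (h | h)
      · exact h.1
      · rw [hY] at h
        obtain ⟨q, rfl⟩ := h
        exact hmem q
  have hDisj : Disjoint X Y := by
    rw [hX]
    exact Set.disjoint_sdiff_left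
  have hXfin : X.Finite := Set.toFinite X
  have hYfin : Y.Finite := Set.toFinite Y
  -- splitting sums over the block
  have hsplit : ∀ F : IrrCharacter G → ℂ, ∑ᶠ χ ∈ principalBlock M G, F χ =
      ∑ᶠ χ ∈ X, F χ + ∑ q, F (η q) := by
    intro F
    rw [hUnion, finsum_mem_union hDisj hXfin hYfin, hY, finsum_mem_range hinj,
      finsum_eq_sum_of_fintype (fun q => F (η q))]
  -- constants on X
  have hXa : ∀ χ ∈ X, ∀ ψ : {ψ : (P : Subgroup G) →* ℂˣ // ψ ≠ 1},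
      blA (P : Subgroup G) (χ : G → ℂ) ψ.1 = (a χ : ℂ) := by
    intro χ hχ ψ
    rw [ha]
    show _ = ((blAInt (P : Subgroup G) (χ : G → ℂ) ψ₀.1 : ℤ) : ℂ)
    rw [blAInt_cast _ (hchar χ)]
    exact hoth χ (hXB χ hχ) (hXY χ hχ) ψ ψ₀
  have hXval : ∀ χ ∈ X, ∀ y : (P : Subgroup G), y ≠ 1 → (χ : G → ℂ) y = (a χ : ℂ) := by
    intro χ hχ y hy
    rw [blA_fourier (P : Subgroup G) hab' (χ : G → ℂ) y hy]
    have h1 : ∀ ψ : (P : Subgroup G) →* ℂˣ,
        blA (P : Subgroup G) (χ : G → ℂ) ψ * ((ψ y : ℂˣ) : ℂ) =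
          (a χ : ℂ) * ((ψ y : ℂˣ) : ℂ) - if ψ = 1 then (a χ : ℂ) else 0 := by
      intro ψ
      by_cases h : ψ = 1
      · rw [if_pos h, h, blA_one]
        simp
      · rw [if_neg h, hXa χ hχ ⟨ψ, h⟩]
        ring
    rw [Finset.sum_congr rfl (fun ψ _ => h1 ψ), Finset.sum_sub_distrib, ← Finset.mul_sum,
      bl_sum_dual hab' y hy, Finset.sum_ite_eq' Finset.univ (1 : (P : Subgroup G) →* ℂˣ),
      if_pos (Finset.mem_univ _)]
    ring
  -- values of the exceptional characters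
  have hYval : ∀ (q : blOrb (P : Subgroup G)) (y : (P : Subgroup G)), y ≠ 1 →
      (η q : G → ℂ) y = (d : ℂ) + (δ : ℂ) * ∑ ψ : (P : Subgroup G) →* ℂˣ,
        if ∃ h : ψ ≠ 1, Quotient.mk (blSetoid (P : Subgroup G)) ⟨ψ, h⟩ = q
          then ((ψ y : ℂˣ) : ℂ) else 0 := by
    intro q y hy
    rw [blA_fourier (P : Subgroup G) hab' (η q : G → ℂ) y hy]
    have h1 : ∀ ψ : (P : Subgroup G) →* ℂˣ,
        blA (P : Subgroup G) (η q : G → ℂ) ψ * ((ψ y : ℂˣ) : ℂ) =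
          (d : ℂ) * ((ψ y : ℂˣ) : ℂ) - (if ψ = 1 then (d : ℂ) else 0) -
            (δ : ℂ) * (if ∃ h : ψ ≠ 1, Quotient.mk (blSetoid (P : Subgroup G)) ⟨ψ, h⟩ = q
              then ((ψ y : ℂˣ) : ℂ) else 0) := by
      intro ψ
      by_cases h : ψ = 1
      · rw [if_pos h, if_neg (fun ⟨h', _⟩ => h' h), h, blA_one]
        simp
      · rw [if_neg h, hval q ⟨ψ, h⟩]
        by_cases hq : q = Quotient.mk (blSetoid (P : Subgroup G)) ⟨ψ, h⟩
        · rw [if_pos hq, if_pos ⟨h, hq.symm⟩]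
          push_cast
          ring
        · rw [if_neg hq, if_neg (fun ⟨_, h'⟩ => hq h'.symm)]
          push_cast
          ring
    rw [Finset.sum_congr rfl (fun ψ _ => h1 ψ), Finset.sum_sub_distrib, Finset.sum_sub_distrib,
      ← Finset.mul_sum, ← Finset.mul_sum,
      bl_sum_dual hab' y hy, Finset.sum_ite_eq' Finset.univ (1 : (P : Subgroup G) →* ℂˣ),
      if_pos (Finset.mem_univ _)]
    ring
  -- orthogonality with p-regular columns
  have hregsplit : ∀ (g : G), ¬ p ∣ orderOf g → ∀ q : blOrb (P : Subgroup G),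
      ∑ᶠ χ ∈ X, (a χ : ℂ) * (χ : G → ℂ) g + (d : ℂ) * ∑ q', (η q' : G → ℂ) g -
        (δ : ℂ) * (η q : G → ℂ) g = 0 := by
    intro g hg q
    obtain ⟨ψ, rfl⟩ := Quotient.exists_rep q
    have h1 := bl_reg P hM g hg ψ.1
    rw [hsplit] at h1
    have h2 : ∑ᶠ χ ∈ X, (χ : G → ℂ) g * blA (P : Subgroup G) (χ : G → ℂ) ψ.1 =
        ∑ᶠ χ ∈ X, (a χ : ℂ) * (χ : G → ℂ) g := by
      refine finsum_mem_congr rfl fun χ hχ => ?_
      rw [hXa χ hχ ψ, mul_comm]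
    have h3 : ∑ q', (η q' : G → ℂ) g * blA (P : Subgroup G) (η q' : G → ℂ) ψ.1 =
        (d : ℂ) * ∑ q', (η q' : G → ℂ) g -
          (δ : ℂ) * (η (Quotient.mk (blSetoid (P : Subgroup G)) ψ) : G → ℂ) g := by
      have h4 : ∀ q' : blOrb (P : Subgroup G),
          (η q' : G → ℂ) g * blA (P : Subgroup G) (η q' : G → ℂ) ψ.1 =
            (d : ℂ) * (η q' : G → ℂ) g -
              if q' = Quotient.mk (blSetoid (P : Subgroup G)) ψ
                then (δ : ℂ) * (η q' : G → ℂ) g else 0 := by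
        intro q'
        rw [hval q' ψ]
        by_cases hq : q' = Quotient.mk (blSetoid (P : Subgroup G)) ψ
        · rw [if_pos hq, if_pos hq]
          push_cast
          ring
        · rw [if_neg hq, if_neg hq]
          push_cast
          ring
      rw [Finset.sum_congr rfl (fun q' _ => h4 q'), Finset.sum_sub_distrib, ← Finset.mul_sum,
        Finset.sum_ite_eq' Finset.univ (Quotient.mk (blSetoid (P : Subgroup G)) ψ),
        if_pos (Finset.mem_univ _)]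
    rw [h2, h3] at h1
    linear_combination h1
  have hYeq : ∀ (g : G), ¬ p ∣ orderOf g → ∀ q q' : blOrb (P : Subgroup G),
      (η q : G → ℂ) g = (η q' : G → ℂ) g := by
    intro g hg q q'
    have h1 := hregsplit g hg q
    have h2 := hregsplit g hg q'
    have h3 : (δ : ℂ) * ((η q : G → ℂ) g - (η q' : G → ℂ) g) = 0 := by
      linear_combination h2 - h1
    rcases mul_eq_zero.mp h3 with h | h
    · exact absurd h hδ0
    · exact sub_eq_zero.mp h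
  -- the Gram relation
  have hnormC : ∑ᶠ χ ∈ X, ((a χ : ℂ)) ^ 2 +
      ((Nat.card (blOrb (P : Subgroup G)) : ℂ) * (d : ℂ) ^ 2 - 2 * d * δ + (δ : ℂ) ^ 2) =
        (m : ℂ) + 1 := by
    have hg := bl_gram P hM hab hfrob ψ₀.1 ψ₀.1 ψ₀.2 ψ₀.2
    rw [hCN, if_pos ⟨1, blActL_one _ _⟩, hsplit] at hg
    have h2 : ∑ᶠ χ ∈ X, blA (P : Subgroup G) (χ : G → ℂ) ψ₀.1 *
        blA (P : Subgroup G) (χ : G → ℂ) ψ₀.1 = ∑ᶠ χ ∈ X, ((a χ : ℂ)) ^ 2 := by
      refine finsum_mem_congr rfl fun χ hχ => ?_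
      rw [hXa χ hχ ψ₀, sq]
    have h3 : ∑ q', blA (P : Subgroup G) (η q' : G → ℂ) ψ₀.1 *
        blA (P : Subgroup G) (η q' : G → ℂ) ψ₀.1 =
        (Nat.card (blOrb (P : Subgroup G)) : ℂ) * (d : ℂ) ^ 2 - 2 * d * δ + (δ : ℂ) ^ 2 := by
      have h4 : ∀ q' : blOrb (P : Subgroup G),
          blA (P : Subgroup G) (η q' : G → ℂ) ψ₀.1 * blA (P : Subgroup G) (η q' : G → ℂ) ψ₀.1 =
            (d : ℂ) ^ 2 - if q' = Quotient.mk (blSetoid (P : Subgroup G)) ψ₀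
              then (2 * d * δ - (δ : ℂ) ^ 2) else 0 := by
        intro q'
        rw [hval q' ψ₀]
        by_cases hq : q' = Quotient.mk (blSetoid (P : Subgroup G)) ψ₀
        · rw [if_pos hq, if_pos hq]
          push_cast
          ring
        · rw [if_neg hq, if_neg hq]
          push_cast
          ring
      rw [Finset.sum_congr rfl (fun q' _ => h4 q'), Finset.sum_sub_distrib, Finset.sum_const,
        Finset.sum_ite_eq' Finset.univ (Quotient.mk (blSetoid (P : Subgroup G)) ψ₀),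
        if_pos (Finset.mem_univ _), Finset.card_univ, nsmul_eq_mul, Nat.card_eq_fintype_card]
      ring
    rw [h2, h3] at hg
    exact hg
  have hnormZ : (d - δ) ^ 2 + ((Nat.card (P : Subgroup G) - 1) / m - 1 : ℤ) * d ^ 2 +
      ∑ᶠ χ ∈ X, a χ ^ 2 = (m : ℤ) + 1 := by
    rw [hrZ]
    apply Int.cast_injective (α := ℂ)
    have h1 : ((∑ᶠ χ ∈ X, a χ ^ 2 : ℤ) : ℂ) = ∑ᶠ χ ∈ X, ((a χ : ℂ)) ^ 2 := by
      have h2 := (Int.castAddHom ℂ).map_finsum_mem (fun χ => a χ ^ 2) hXfin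
      simp only [Int.coe_castAddHom, Int.cast_pow] at h2
      exact h2
    push_cast
    rw [h1]
    linear_combination hnormC
  -- the trivial character
  have htrivX : Cfsg.Agent.Lib.Helper77.trivIrr G ∈ X := by
    rw [hX]
    refine ⟨Cfsg.Agent.Lib.Helper77.trivIrr_mem_principalBlock hPr, ?_⟩
    rw [hY]
    rintro ⟨q, hq⟩
    have e1 := hval q ψ₀
    have e2 := hval q ψ₁
    rw [hq] at e1 e2
    have e3 : blA (P : Subgroup G) (Cfsg.Agent.Lib.Helper77.trivIrr G : G → ℂ) ψ₀.1 = 1 :=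
      blA_triv _ _ ψ₀.2
    have e4 : blA (P : Subgroup G) (Cfsg.Agent.Lib.Helper77.trivIrr G : G → ℂ) ψ₁.1 = 1 :=
      blA_triv _ _ ψ₁.2
    rw [e3] at e1
    rw [e4] at e2
    have e5 : (d - if q = Quotient.mk (blSetoid (P : Subgroup G)) ψ₀ then δ else 0 : ℤ) =
        (d - if q = Quotient.mk (blSetoid (P : Subgroup G)) ψ₁ then δ else 0 : ℤ) := by
      apply Int.cast_injective (α := ℂ)
      rw [← e1, ← e2]
    have hδ' : δ ≠ 0 := by
      rcases hδ with h | h <;> rw [h] <;> norm_num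
    by_cases c0 : q = Quotient.mk (blSetoid (P : Subgroup G)) ψ₀
    · have c1 : q ≠ Quotient.mk (blSetoid (P : Subgroup G)) ψ₁ := by
        rw [c0, hψ₀, hψ₁]
        exact h01
      rw [if_pos c0, if_neg c1] at e5
      omega
    · by_cases c1 : q = Quotient.mk (blSetoid (P : Subgroup G)) ψ₁
      · rw [if_neg c0, if_pos c1] at e5
        omega
      · -- take a representative of q
        obtain ⟨ψ₂, hψ₂⟩ := Quotient.exists_rep q
        have e6 := hval q ψ₂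
        rw [hq] at e6
        have e7 : blA (P : Subgroup G) (Cfsg.Agent.Lib.Helper77.trivIrr G : G → ℂ) ψ₂.1 = 1 :=
          blA_triv _ _ ψ₂.2
        rw [e7, if_pos hψ₂.symm] at e6
        rw [if_neg c0] at e1
        have e8 : (d - 0 : ℤ) = (d - δ : ℤ) := by
          apply Int.cast_injective (α := ℂ)
          rw [← e1, ← e6]
        omega
  -- nonvanishing
  have hane : ∀ χ ∈ X, a χ ≠ 0 := by
    intro χ hχ h0
    have h1 := hXval χ hχ y₀ hy₀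
    rw [h0, Int.cast_zero] at h1
    exact bl_ne_zero P hM hab' χ (hXB χ hχ) (y₀ : G) y₀.2 h1
  -- the size of X
  have hXcard : Nat.card X ≤ m := by
    haveI : Fintype X := Fintype.ofFinite X
    have h1 : ∑ᶠ χ ∈ X, a χ ^ 2 = ∑ χ ∈ X.toFinset, a χ ^ 2 := finsum_mem_eq_toFinset_sum _ X
    have h2 : (X.toFinset.card : ℤ) ≤ ∑ χ ∈ X.toFinset, a χ ^ 2 := by
      rw [Finset.card_eq_sum_ones, Nat.cast_sum]
      refine Finset.sum_le_sum fun χ hχ => ?_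
      have h3 := hane χ (Set.mem_toFinset.mp hχ)
      have h4 : 0 < a χ ^ 2 := by positivity
      push_cast
      omega
    have h5 : (1 : ℤ) ≤ (d - δ) ^ 2 + ((Nat.card (blOrb (P : Subgroup G)) : ℤ) - 1) * d ^ 2 := by
      by_cases hd : d = 0
      · rw [hd]
        have : (0 - δ) ^ 2 = δ ^ 2 := by ring
        rw [this, hδ2]
        simp
      · have h6 : 1 ≤ d ^ 2 := by
          have : 0 < d ^ 2 := by positivity
          omega
        have h7 : (1 : ℤ) ≤ (Nat.card (blOrb (P : Subgroup G)) : ℤ) - 1 := by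
          have : (2 : ℤ) ≤ (Nat.card (blOrb (P : Subgroup G)) : ℤ) := by exact_mod_cast hκ2
          linarith
        nlinarith [sq_nonneg (d - δ)]
    have h8 := hnormZ
    rw [hrZ, h1] at h8
    rw [Nat.card_eq_fintype_card, ← Set.toFinset_card]
    have h9 : (X.toFinset.card : ℤ) ≤ (m : ℤ) := by linarith
    exact_mod_cast h9
  refine ⟨X, Y, a, ζ, hXcard, hUnion, hDisj, ?_, ⟨Cfsg.Agent.Lib.Helper77.trivIrr G, htrivX, rfl⟩,
    ?_, ?_, ?_, ?_, ?_, hnormZ, ?_, ?_, hY, by rw [hX, hY], hζ1, htrivX⟩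
  · rw [hr, hY]
    exact Nat.card_range_of_injective hinj
  · intro χ hχ
    refine ⟨hane χ hχ, ?_⟩
    intro z y hzy hy hy1
    rw [bl_value P hM hab' hfrob χ (hXB χ hχ) z y hzy hy hy1]
    exact hXval χ hχ ⟨y, hy⟩ (fun h => hy1 (congrArg Subtype.val h))
  · intro ψ hψ
    rw [hζ1 ψ hψ]
    exact hYmem _
  · intro χ hχ
    rw [hY] at hχ
    obtain ⟨q, rfl⟩ := hχ
    obtain ⟨ψ, rfl⟩ := Quotient.exists_rep q
    exact ⟨ψ.1, ψ.2, hζ1 ψ.1 ψ.2⟩
  · intro ψ ψ' hψ hR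
    obtain ⟨n, hn⟩ := (bl_rel_iff (P : Subgroup G) ψ ψ').mp hR
    have hψ' : ψ' ≠ 1 := by
      rw [← hn]
      exact blActL_ne_one _ n ψ hψ
    rw [hζ1 ψ hψ, hζ1 ψ' hψ']
    congr 1
    exact ((blOrb_eq_iff (P : Subgroup G) ⟨ψ, hψ⟩ ⟨ψ', hψ'⟩).mpr ⟨n, hn⟩).symm
  · intro ψ hψ z y hzy hy1
    rw [hζ1 ψ hψ, bl_value P hM hab' hfrob _ (hmem _) z (y : G) hzy y.2 hy1,
      hYval _ y (fun h => hy1 (congrArg Subtype.val h)),
      Cfsg.Agent.Lib.Helper16.finsum_mem_eq_sum_ite]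
    congr 2
    refine Finset.sum_congr rfl fun ψ' _ => ?_
    have hiff : (∃ h : ψ' ≠ 1, Quotient.mk (blSetoid (P : Subgroup G)) ⟨ψ', h⟩ =
        Quotient.mk (blSetoid (P : Subgroup G)) ⟨ψ, hψ⟩) ↔
        ψ' ∈ {ψ' : ↥(P : Subgroup G) →* ℂˣ |
            ∃ n : G, n ∈ Subgroup.normalizer ((P : Subgroup G) : Set G) ∧
              ∀ w w' : ↥(P : Subgroup G), (w' : G) = n * w * n⁻¹ → ψ' w' = ψ w} := by
      rw [Set.mem_setOf_eq, bl_rel_iff]
      constructor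
      · rintro ⟨h, hq⟩
        exact (blOrb_eq_iff (P : Subgroup G) ⟨ψ, hψ⟩ ⟨ψ', h⟩).mp hq.symm
      · rintro ⟨n, hn⟩
        have hψ' : ψ' ≠ 1 := by
          rw [← hn]
          exact blActL_ne_one _ n ψ hψ
        exact ⟨hψ', ((blOrb_eq_iff (P : Subgroup G) ⟨ψ, hψ⟩ ⟨ψ', hψ'⟩).mpr ⟨n, hn⟩).symm⟩
    by_cases h : ψ' ∈ {ψ' : ↥(P : Subgroup G) →* ℂˣ |
            ∃ n : G, n ∈ Subgroup.normalizer ((P : Subgroup G) : Set G) ∧
              ∀ w w' : ↥(P : Subgroup G), (w' : G) = n * w * n⁻¹ → ψ' w' = ψ w}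
    · rw [if_pos h, if_pos (hiff.mpr h)]
    · rw [if_neg h, if_neg (fun h' => h (hiff.mp h'))]
  · intro χ hχ χ' hχ' g hg
    rw [hY] at hχ hχ'
    obtain ⟨q, rfl⟩ := hχ
    obtain ⟨q', rfl⟩ := hχ'
    exact hYeq g hg q q'
  · intro χ hχ g hg
    rw [hY] at hχ
    obtain ⟨q, rfl⟩ := hχ
    have h1 := hregsplit g hg q
    have h2 : ∑ q', (η q' : G → ℂ) g =
        (Nat.card (blOrb (P : Subgroup G)) : ℂ) * (η q : G → ℂ) g := by
      rw [Finset.sum_congr rfl (fun q' _ => hYeq g hg q' q), Finset.sum_const, Finset.card_univ,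
        nsmul_eq_mul, Nat.card_eq_fintype_card]
    rw [h2] at h1
    rw [hr]
    linear_combination h1

end package

end Cfsg.Agent.Lib.Helper78
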