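import Mathlib
import Cfsg.Prelude.Def_Blocks
import Cfsg.Agent.Lib.Helper76.PRegHeight
import Cfsg.Agent.Lib.Helper78.CentralCalc
import Cfsg.Agent.Lib.Helper80.CharOps
import Cfsg.Agent.Lib.Helper16.FirstMain

/-!
# Weak block orthogonality and restriction of `p`-regular truncations to subgroups

* `weak_block_orth`: characters in different blocks are orthogonal on `p`-regular elements;
* `omegaF_pRegConj_eq_zero`: the same, through `omegaF`;
* `not_memLocalIdeal_omegaF_res_pRegConj`: if `b` (a block of `H`) induces `B` and `χ ∈ B` has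
  height zero, the central character of any `ξ ∈ b` at the restriction to `H` of the
  `p`-regular truncation of `conj χ` is not in the local ideal.
-/

set_option autoImplicit false
set_option linter.unusedSectionVars false

namespace Cfsg.Agent.Lib.Helper78

open Cfsg Cfsg.Agent.Lib.Helper16 Cfsg.Agent.Lib.Helper76 Cfsg.Agent.Lib.Helper77
  Cfsg.Agent.Lib.Helper81
open scoped ComplexConjugate

section

variable {G : Type*} [Group G] [Fintype G] {M : Ideal Cfsg.AlgInt}

/-- Weak block orthogonality: irreducible characters in different blocks are orthogonal on the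
`p`-regular elements. -/
theorem weak_block_orth {p : ℕ} [Fact p.Prime] (hM : Cfsg.IsPModular p M)
    (B : Set (Cfsg.IrrCharacter G)) (hB : Cfsg.IsPBlock M B) (χ₁ : Cfsg.IrrCharacter G)
    (h₁ : χ₁ ∈ B) (χ₀ : Cfsg.IrrCharacter G) (h₀ : χ₀ ∉ B) :
    ∑ x : G, (if p ∣ orderOf x then (0 : ℂ) else (χ₁ : G → ℂ) x) * (χ₀ : G → ℂ) x⁻¹ = 0 := by
  classical
  have hp : p.Prime := hM.1
  have := Cfsg.Agent.Lib.Helper81.irr_finite G
  have := Fintype.ofFinite (Cfsg.IrrCharacter G)
  obtain ⟨a, ha0, -, hexp⟩ := pRegular_block_expansion p M hM B hB χ₁ h₁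
  have hpa : ((p ^ (Nat.card G).factorization p : ℕ) : ℂ) ≠ 0 := by
    exact_mod_cast (pow_pos hp.pos _).ne'
  have key : ∑ x : G, (if p ∣ orderOf x then (0 : ℂ) else
      ((p ^ (Nat.card G).factorization p : ℕ) : ℂ) * (χ₁ : G → ℂ) x) * (χ₀ : G → ℂ) x⁻¹ = 0 := by
    have h1 : ∀ x : G, (if p ∣ orderOf x then (0 : ℂ) else
        ((p ^ (Nat.card G).factorization p : ℕ) : ℂ) * (χ₁ : G → ℂ) x) =
        ∑ ψ : Cfsg.IrrCharacter G, (a ψ : ℂ) * (ψ : G → ℂ) x := by
      intro x
      have h2 := congrFun hexp x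
      rw [finsum_eq_sum_of_fintype] at h2
      exact h2
    simp_rw [h1, Finset.sum_mul]
    rw [Finset.sum_comm]
    apply Finset.sum_eq_zero
    intro ψ _
    simp_rw [mul_assoc]
    rw [← Finset.mul_sum, irr_orth ψ χ₀]
    by_cases h : ψ = χ₀
    · rw [h, ha0 χ₀ h₀]; simp
    · rw [if_neg h, mul_zero]
  have hfac : ∑ x : G, (if p ∣ orderOf x then (0 : ℂ) else
      ((p ^ (Nat.card G).factorization p : ℕ) : ℂ) * (χ₁ : G → ℂ) x) * (χ₀ : G → ℂ) x⁻¹ =
      ((p ^ (Nat.card G).factorization p : ℕ) : ℂ) *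
        ∑ x : G, (if p ∣ orderOf x then (0 : ℂ) else (χ₁ : G → ℂ) x) * (χ₀ : G → ℂ) x⁻¹ := by
    rw [Finset.mul_sum]
    refine Finset.sum_congr rfl fun x _ => ?_
    split_ifs
    · simp
    · ring
  rw [hfac] at key
  exact (mul_eq_zero.1 key).resolve_left hpa

/-- Weak block orthogonality through `omegaF`: for `ξ'` in the block `B` and `ξ` outside it,
the central character of `ξ'` at the `p`-regular truncation of `conj ξ` vanishes. -/
theorem omegaF_pRegConj_eq_zero {p : ℕ} [Fact p.Prime] (hM : Cfsg.IsPModular p M)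
    (B : Set (Cfsg.IrrCharacter G)) (hB : Cfsg.IsPBlock M B) (ξ' : Cfsg.IrrCharacter G)
    (h' : ξ' ∈ B) (ξ : Cfsg.IrrCharacter G) (h : ξ ∉ B) :
    omegaF (ξ' : G → ℂ) (pRegConj p (ξ : G → ℂ)) = 0 := by
  unfold omegaF
  have h1 : ∑ g : G, pRegConj p (ξ : G → ℂ) g * (ξ' : G → ℂ) g =
      ∑ x : G, (if p ∣ orderOf x then (0 : ℂ) else (ξ' : G → ℂ) x) * (ξ : G → ℂ) x⁻¹ := by
    refine Finset.sum_congr rfl fun x _ => ?_
    unfold pRegConj
    rw [irr_inv]
    split_ifs
    · simp
    · ring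
  rw [h1, weak_block_orth hM B hB ξ' h' ξ h, zero_div]

end

section Restrict

variable {G : Type*} [Group G] [Fintype G] {M : Ideal Cfsg.AlgInt}

/-- If `b` induces `B`, `χ ∈ B` has height zero and `ξ ∈ b`, then the central character of `ξ`
at the restriction to `H` of the `p`-regular truncation of `conj χ` is not in the local ideal. -/
theorem not_memLocalIdeal_omegaF_res_pRegConj {p : ℕ} [Fact p.Prime] (hM : Cfsg.IsPModular p M)
    (H : Subgroup G) [Fintype H] (b : Set (Cfsg.IrrCharacter H))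
    (B : Set (Cfsg.IrrCharacter G)) (hind : Cfsg.IsInducedBlock M H b B)
    (χ : Cfsg.IrrCharacter G) (hχ : χ ∈ B) (h0 : Cfsg.blockHeight p B (χ : G → ℂ) = 0)
    (ξ : Cfsg.IrrCharacter H) (hξ : ξ ∈ b) :
    ¬ Cfsg.MemLocalIdeal M (omegaF (ξ : H → ℂ) (fun k : H => pRegConj p (χ : G → ℂ) (k : G))) := by
  have hP := isPrime_of_isPModular hM
  obtain ⟨hb, hB, hcong⟩ := hind
  have hΓ := not_memLocalIdeal_of_height_zero hM B hB χ hχ h0
  have hcl := isRClass_pRegConj hP p χ
  have hres := memLocalIdeal_omegaF_restrict_sub hP H (ξ : H → ℂ) (χ : G → ℂ)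
    (fun g h => Cfsg.Agent.Lib.Helper16.irrCharacter_conj_eq χ h g)
    (fun g => hcong ξ hξ χ hχ g) hcl.2 hcl.1
  intro hc
  apply hΓ
  rw [← omegaF_eq]
  have h2 := Cfsg.Agent.Lib.Helper16.memLocalIdeal_sub hP hc hres
  rwa [sub_sub_cancel] at h2

/-- The restriction to `H` of the `p`-regular truncation is the truncation of the restriction. -/
theorem pRegConj_res (p : ℕ) (H : Subgroup G) (χ : G → ℂ) :
    (fun k : H => pRegConj p χ (k : G)) = pRegConj p (fun k : H => χ (k : G)) := by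
  funext k
  unfold pRegConj
  rw [Subgroup.orderOf_coe]

end Restrict

end Cfsg.Agent.Lib.Helper78
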